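import Mathlib.GroupTheory.Sylow
import Mathlib.GroupTheory.GroupAction.ConjAct
import Mathlib.GroupTheory.OrderOfElement

/-!
Basic facts about pairs of involutions (dihedral configurations).
-/

set_option autoImplicit false

namespace Cfsg.Agent.H26

variable {G : Type*} [Group G]

theorem mul_self_of_orderOf_two {x : G} (hx : orderOf x = 2) : x * x = 1 := by
  rw [← pow_two, ← hx, pow_orderOf_eq_one]

theorem ne_one_of_orderOf_two {x : G} (hx : orderOf x = 2) : x ≠ 1 := by
  intro h; simp [h] at hx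

theorem inv_eq_self_of_orderOf_two {x : G} (hx : orderOf x = 2) : x⁻¹ = x :=
  inv_eq_of_mul_eq_one_right (mul_self_of_orderOf_two hx)

theorem orderOf_two_of_mul_self {x : G} (h : x * x = 1) (h1 : x ≠ 1) : orderOf x = 2 :=
  orderOf_eq_prime (by rw [pow_two, h]) h1

theorem orderOf_two_iff {x : G} : orderOf x = 2 ↔ x * x = 1 ∧ x ≠ 1 :=
  ⟨fun h => ⟨mul_self_of_orderOf_two h, ne_one_of_orderOf_two h⟩,
    fun h => orderOf_two_of_mul_self h.1 h.2⟩

theorem orderOf_conj_eq (g x : G) : orderOf (g * x * g⁻¹) = orderOf x := by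
  simpa using orderOf_injective (MulAut.conj g).toMonoidHom (MulEquiv.injective _) x

theorem isConj_orderOf {x y : G} (h : IsConj x y) : orderOf x = orderOf y := by
  obtain ⟨c, hc⟩ := isConj_iff.1 h
  rw [← hc, orderOf_conj_eq]

/-- The first involution inverts every power of the product. -/
theorem conj_zpow_mul {x y : G} (hx : x * x = 1) (hy : y * y = 1) (k : ℤ) :
    x * (x * y) ^ k * x = (x * y) ^ (-k) := by
  have hxi : x⁻¹ = x := inv_eq_of_mul_eq_one_right hx
  have hyi : y⁻¹ = y := inv_eq_of_mul_eq_one_right hy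
  have h1 : x * (x * y) * x⁻¹ = (x * y)⁻¹ := by
    rw [mul_inv_rev, hxi, hyi, ← mul_assoc x x y, hx, one_mul]
  have h2 := map_zpow (MulAut.conj x) (x * y) k
  simp only [MulAut.conj_apply] at h2
  rw [h1, inv_zpow', hxi] at h2
  exact h2

theorem mul_zpow_mul_comm {x y : G} (hx : x * x = 1) (hy : y * y = 1) (k : ℤ) :
    (x * y) ^ k * x = x * (x * y) ^ (-k) := by
  rw [← conj_zpow_mul hx hy k, ← mul_assoc, ← mul_assoc, hx, one_mul]

/-- Conjugating the first involution by a power of the product. -/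
theorem zpow_conj_fst {x y : G} (hx : x * x = 1) (hy : y * y = 1) (m : ℤ) :
    (x * y) ^ m * x * ((x * y) ^ m)⁻¹ = x * (x * y) ^ (-2 * m) := by
  rw [mul_zpow_mul_comm hx hy, mul_assoc, ← zpow_neg, ← zpow_add]
  congr 2; ring

theorem eq_mul_zpow_one {x y : G} (hx : x * x = 1) : y = x * (x * y) ^ (1 : ℤ) := by
  rw [zpow_one, ← mul_assoc, hx, one_mul]

/-- Conjugating the second involution by a power of the product. -/
theorem zpow_conj_snd {x y : G} (hx : x * x = 1) (hy : y * y = 1) (m : ℤ) :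
    (x * y) ^ m * y * ((x * y) ^ m)⁻¹ = x * (x * y) ^ (1 - 2 * m) := by
  conv_lhs => arg 1; arg 2; rw [eq_mul_zpow_one (y := y) hx]
  rw [← mul_assoc, mul_zpow_mul_comm hx hy, mul_assoc x, ← zpow_add, mul_assoc x, ← zpow_neg,
    ← zpow_add]
  congr 2; ring

theorem mul_zpow_mul_self {x y : G} (hx : x * x = 1) (hy : y * y = 1) (k : ℤ) :
    (x * (x * y) ^ k) * (x * (x * y) ^ k) = 1 := by
  rw [← mul_assoc, conj_zpow_mul hx hy, ← zpow_add, neg_add_cancel, zpow_zero]

/-- The elements of the subgroup generated by two involutions. -/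
theorem mem_closure_pair_iff {x y : G} (hx : x * x = 1) (hy : y * y = 1) {d : G} :
    d ∈ Subgroup.closure ({x, y} : Set G) ↔
      ∃ k : ℤ, d = (x * y) ^ k ∨ d = x * (x * y) ^ k := by
  constructor
  · intro hd
    induction hd using Subgroup.closure_induction with
    | mem a ha =>
      rcases ha with rfl | ha
      · exact ⟨0, Or.inr (by simp)⟩
      · rw [Set.mem_singleton_iff] at ha
        subst ha
        exact ⟨1, Or.inr (eq_mul_zpow_one hx)⟩
    | one => exact ⟨0, Or.inl (by simp)⟩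
    | mul a b _ _ iha ihb =>
      obtain ⟨i, rfl | rfl⟩ := iha <;> obtain ⟨j, rfl | rfl⟩ := ihb
      · exact ⟨i + j, Or.inl (zpow_add _ _ _).symm⟩
      · refine ⟨-i + j, Or.inr ?_⟩
        rw [← mul_assoc, mul_zpow_mul_comm hx hy, mul_assoc, ← zpow_add]
      · exact ⟨i + j, Or.inr (by rw [mul_assoc, ← zpow_add])⟩
      · refine ⟨-i + j, Or.inl ?_⟩
        rw [← mul_assoc, conj_zpow_mul hx hy, ← zpow_add]
    | inv a _ iha =>
      obtain ⟨i, rfl | rfl⟩ := iha
      · exact ⟨-i, Or.inl (by rw [zpow_neg])⟩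
      · exact ⟨i, Or.inr (inv_eq_of_mul_eq_one_right (mul_zpow_mul_self hx hy i))⟩
  · have hxm : x ∈ Subgroup.closure ({x, y} : Set G) := Subgroup.subset_closure (by simp)
    have hym : y ∈ Subgroup.closure ({x, y} : Set G) := Subgroup.subset_closure (by simp)
    rintro ⟨k, rfl | rfl⟩
    · exact zpow_mem (mul_mem hxm hym) k
    · exact mul_mem hxm (zpow_mem (mul_mem hxm hym) k)

theorem fst_notMem_zpowers {x y : G} (hx : x * x = 1) (hy : y * y = 1) (hx1 : x ≠ 1)
    (hy1 : y ≠ 1) : x ∉ Subgroup.zpowers (x * y) := by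
  rintro ⟨k, hk⟩
  simp only at hk
  have h1 : x * (x * y) = (x * y) * x := by
    conv_lhs => arg 1; rw [← hk]
    conv_rhs => arg 2; rw [← hk]
    rw [← zpow_add_one, ← zpow_one_add]; congr 1; ring
  have h3 := mul_zpow_mul_comm hx hy 1
  simp only [zpow_one] at h3
  rw [← h1, zpow_neg, zpow_one] at h3
  have h4 : x * y = (x * y)⁻¹ := mul_left_cancel h3
  have h5 : (x * y) * (x * y) = 1 := by nth_rewrite 2 [h4]; exact mul_inv_cancel _
  rcases Int.even_or_odd k with ⟨j, hj⟩ | ⟨j, hj⟩
  · apply hx1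
    rw [← hk, hj, ← two_mul, zpow_mul, show (x * y) ^ (2 : ℤ) = 1 by rw [zpow_two, h5], one_zpow]
  · apply hy1
    have : x = x * y := by
      nth_rewrite 1 [← hk]
      rw [hj, zpow_add, zpow_mul, show (x * y) ^ (2 : ℤ) = 1 by rw [zpow_two, h5], one_zpow,
        one_mul, zpow_one]
    exact left_eq_mul.1 this

/-- If the product of two involutions has odd order they are conjugate in the subgroup they
generate. -/
theorem exists_conj_of_odd {x y : G} (hx : x * x = 1) (hy : y * y = 1)
    (hodd : Odd (orderOf (x * y))) :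
    ∃ m : ℤ, (x * y) ^ m * x * ((x * y) ^ m)⁻¹ = y := by
  obtain ⟨j, hj⟩ := hodd
  refine ⟨j, ?_⟩
  rw [zpow_conj_fst hx hy]
  have : (x * y) ^ (-2 * (j : ℤ)) = (x * y) ^ (1 : ℤ) := by
    rw [zpow_eq_zpow_iff_modEq, hj]
    refine (Int.modEq_iff_dvd.2 ⟨1, ?_⟩)
    push_cast; ring
  rw [this, ← eq_mul_zpow_one hx]

theorem isConj_of_odd {x y : G} (hx : x * x = 1) (hy : y * y = 1)
    (hodd : Odd (orderOf (x * y))) : IsConj x y := by
  obtain ⟨m, hm⟩ := exists_conj_of_odd hx hy hodd
  exact isConj_iff.2 ⟨_, hm⟩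

theorem even_orderOf_of_not_isConj [Finite G] {x y : G} (hx : x * x = 1) (hy : y * y = 1)
    (h : ¬ IsConj x y) : Even (orderOf (x * y)) :=
  (Nat.even_or_odd _).resolve_right fun ho => h (isConj_of_odd hx hy ho)

theorem conj_ne_of_even {x y : G} (hx : x * x = 1) (hy : y * y = 1)
    (heven : Even (orderOf (x * y))) {d : G} (hd : d ∈ Subgroup.closure ({x, y} : Set G)) :
    d * x * d⁻¹ ≠ y := by
  have key : ∀ m : ℤ, x * (x * y) ^ m ≠ y ∨ ¬ Even m := by
    intro m
    by_contra hc
    push Not at hc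
    obtain ⟨h1, r, hr⟩ := hc
    have h2 : (x * y) ^ m = (x * y) ^ (1 : ℤ) :=
      mul_left_cancel (h1.trans (eq_mul_zpow_one hx))
    rw [zpow_eq_zpow_iff_modEq] at h2
    obtain ⟨t, ht⟩ := Int.modEq_iff_dvd.1 h2
    obtain ⟨s, hs⟩ := heven
    have h5 : 1 = 2 * (r + (s : ℤ) * t) := by
      rw [hs, hr] at ht; push_cast at ht; linarith
    omega
  intro he
  obtain ⟨k, rfl | rfl⟩ := (mem_closure_pair_iff hx hy).1 hd
  · rw [zpow_conj_fst hx hy] at he
    rcases key (-2 * k) with h | h
    · exact h he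
    · exact h ⟨-k, by ring⟩
  · have : x * (x * y) ^ (2 * k) = y := by
      rw [mul_inv_rev, inv_eq_of_mul_eq_one_right hx, conj_zpow_mul hx hy, ← zpow_neg, ← mul_assoc,
        ← zpow_add, mul_zpow_mul_comm hx hy] at he
      rw [show 2 * k = -(-k + -k) by ring]; exact he
    rcases key (2 * k) with h | h
    · exact h this
    · exact h ⟨k, by ring⟩

/-- The central involution of a dihedral group of order divisible by 4. -/
theorem central_involution [Finite G] {x y : G} (hx : x * x = 1) (hy : y * y = 1)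
    (heven : Even (orderOf (x * y))) :
    orderOf ((x * y) ^ (orderOf (x * y) / 2)) = 2 ∧
      Commute ((x * y) ^ (orderOf (x * y) / 2)) x ∧
      Commute ((x * y) ^ (orderOf (x * y) / 2)) y := by
  set n := orderOf (x * y) with hn
  have hpos : 0 < n := orderOf_pos _
  obtain ⟨s, hs⟩ := heven
  have hs' : n / 2 = s := by omega
  rw [hs']
  have ho : orderOf ((x * y) ^ s) = 2 := by
    rw [orderOf_pow' _ (by omega), ← hn, hs, show Nat.gcd (s + s) s = s by simp]
    rw [← two_mul, Nat.mul_div_cancel _ (by omega)]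
  have hc : Commute ((x * y) ^ s) x := by
    unfold Commute SemiconjBy
    rw [← zpow_natCast, mul_zpow_mul_comm hx hy]
    congr 1
    rw [zpow_eq_zpow_iff_modEq, ← hn, hs]
    exact Int.modEq_iff_dvd.2 ⟨1, by push_cast; ring⟩
  refine ⟨ho, hc, ?_⟩
  have h2 : Commute ((x * y) ^ s) (x * y) := Commute.pow_self _ _
  have h3 := hc.mul_right h2
  rwa [← mul_assoc, hx, one_mul] at h3

/-- Two involutions generate a 2-group when the order of their product is a power of two. -/
theorem isPGroup_closure_pair {x y : G} (hx : x * x = 1) (hy : y * y = 1) {a : ℕ}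
    (h : (x * y) ^ (2 ^ a) = 1) : IsPGroup 2 (Subgroup.closure ({x, y} : Set G)) := by
  rintro ⟨d, hd⟩
  obtain ⟨k, rfl | rfl⟩ := (mem_closure_pair_iff hx hy).1 hd
  · refine ⟨a, Subtype.ext ?_⟩
    show ((x * y) ^ k) ^ (2 ^ a) = 1
    rw [← zpow_natCast, ← zpow_mul, mul_comm, zpow_mul, zpow_natCast, h, one_zpow]
  · refine ⟨1, Subtype.ext ?_⟩
    show (x * (x * y) ^ k) ^ (2 ^ 1) = 1
    rw [pow_one, pow_two]
    exact mul_zpow_mul_self hx hy k

/-- Replace `v` by a conjugate `w` such that `u` and `w` generate a 2-group. The product `u * w` is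
trivial exactly when `u * v` has odd order. -/
theorem exists_conj_two_group [Finite G] {u v : G} (hu : u * u = 1) (hv : v * v = 1) :
    ∃ w : G, IsConj v w ∧ w * w = 1 ∧ IsPGroup 2 (Subgroup.closure ({u, w} : Set G)) ∧
      (u = w → Odd (orderOf (u * v))) := by
  set n := orderOf (u * v) with hn
  have hpos : 0 < n := orderOf_pos _
  obtain ⟨a, m, hm, hnm⟩ := Nat.exists_eq_two_pow_mul_odd hpos.ne'
  obtain ⟨j, hj⟩ := hm
  refine ⟨u * (u * v) ^ (m : ℤ), ?_, mul_zpow_mul_self hu hv _, ?_, ?_⟩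
  · refine isConj_iff.2 ⟨(u * v) ^ (-(j : ℤ)), ?_⟩
    rw [zpow_conj_snd hu hv, hj]; congr 2; push_cast; ring
  · refine isPGroup_closure_pair hu (mul_zpow_mul_self hu hv _) (a := a) ?_
    rw [← mul_assoc, hu, one_mul, zpow_natCast, ← pow_mul, mul_comm, ← hnm, hn, pow_orderOf_eq_one]
  · intro he
    have : (u * v) ^ m = 1 := by
      rw [← zpow_natCast]; exact left_eq_mul.1 he
    have hd : n ∣ m := orderOf_dvd_of_pow_eq_one this
    exact Odd.of_dvd_nat ⟨j, hj⟩ hd

/-- An element with no other conjugate in one Sylow subgroup has no other conjugate in any Sylow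
subgroup containing it. -/
theorem isolated_in_every_sylow [Finite G] {p : ℕ} [Fact p.Prime] (S : Sylow p G) {u : G}
    (hiso : ∀ g : G, g * u * g⁻¹ ∈ S → g * u * g⁻¹ = u) (Q : Sylow p G) (hu : u ∈ Q) {w : G}
    (hw : IsConj u w) (hwQ : w ∈ Q) : w = u := by
  obtain ⟨g, hg⟩ := MulAction.exists_smul_eq G Q S
  obtain ⟨c, rfl⟩ := isConj_iff.1 hw
  have hmem : ∀ t : G, t ∈ Q → g * t * g⁻¹ ∈ S := by
    intro t ht
    rw [← hg]
    show g * t * g⁻¹ ∈ ((g • Q : Sylow p G) : Subgroup G)
    rw [Sylow.coe_subgroup_smul]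
    exact ⟨t, ht, rfl⟩
  have h1 := hiso g (hmem u hu)
  have h2 := hiso (g * c) (by
    have := hmem _ hwQ
    simpa [mul_assoc] using this)
  have h3 : g * (c * u * c⁻¹) * g⁻¹ = g * u * g⁻¹ := by
    rw [h1]; simpa [mul_assoc] using h2
  exact mul_left_cancel (mul_right_cancel h3)

/-- The number of conjugates times the order of the centralizer. -/
theorem card_conj_mul_card_centralizer (x : G) :
    Nat.card {g : G // IsConj x g} * Nat.card (Subgroup.centralizer ({x} : Set G)) =
      Nat.card G := by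
  have h := MulAction.orbitEquivQuotientStabilizer (ConjAct G) x
  have e : Nat.card (MulAction.orbit (ConjAct G) x) = Nat.card {g : G // IsConj x g} := by
    refine Nat.card_congr (Equiv.subtypeEquivRight fun g => ?_)
    rw [ConjAct.mem_orbit_conjAct, isConj_comm]
  rw [← e, Nat.card_congr h, ← Subgroup.index_eq_card]
  rw [show Nat.card G = Nat.card (ConjAct G) from Nat.card_congr ConjAct.toConjAct.toEquiv,
    ← (MulAction.stabilizer (ConjAct G) x).index_mul_card]
  congr 1
  rw [ConjAct.stabilizer_eq_centralizer]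
  exact Nat.card_congr (Equiv.refl _)

end Cfsg.Agent.H26
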