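import Cfsg.Prelude.Def_Involutions
import Cfsg.Agent.H26.Invol

/-!
An elementary reformulation of strong embedding: the strong control of involutions.
-/

set_option autoImplicit false

namespace Cfsg.Agent.H26

theorem isStronglyEmbedded_iff_involution {G : Type*} [Group G] [Finite G] (H : Subgroup G)
    (hH : H ≠ ⊤) (heven : Even (Nat.card H)) :
    Cfsg.IsStronglyEmbedded H ↔ ∀ t ∈ H, orderOf t = 2 → ∀ g : G, g * t * g⁻¹ ∈ H → g ∈ H := by
  constructor
  · rintro ⟨-, -, h⟩ t ht ht2 g hg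
    by_contra hgH
    set K := H ⊓ H.map (MulAut.conj g).toMonoidHom
    have hmem : g * t * g⁻¹ ∈ K :=
      Subgroup.mem_inf.2 ⟨hg, Subgroup.mem_map.2 ⟨t, ht, rfl⟩⟩
    have h2 : orderOf (⟨_, hmem⟩ : K) = 2 := by
      rw [Subgroup.orderOf_mk, orderOf_conj_eq, ht2]
    have hd : 2 ∣ Nat.card K := h2 ▸ orderOf_dvd_natCard _
    exact (Nat.not_even_iff_odd.2 (h g hgH)) (even_iff_two_dvd.2 hd)
  · intro h
    refine ⟨hH, heven, fun g hg => ?_⟩
    by_contra hodd
    rw [Nat.not_odd_iff_even, even_iff_two_dvd] at hodd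
    have : Fact (Nat.Prime 2) := ⟨Nat.prime_two⟩
    obtain ⟨s, hs⟩ := exists_prime_orderOf_dvd_card' 2 hodd
    obtain ⟨hs1, t, ht, hts⟩ := Subgroup.mem_inf.1 s.2
    rw [← Subgroup.orderOf_coe] at hs
    have hts' : g * t * g⁻¹ = (s : G) := hts
    exact hg (h t ht (by rw [← orderOf_conj_eq g, hts', hs]) g (hts' ▸ hs1))

end Cfsg.Agent.H26
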