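import Mathlib.RepresentationTheory.Character
import Mathlib.LinearAlgebra.Eigenspace.Triangularizable
import Mathlib.Analysis.Complex.Polynomial.Basic

/-!
Elementary lemmas on complex representations.
-/

set_option autoImplicit false

namespace Cfsg.Agent.H26

variable {G : Type*} [Group G] {k : Type*} [Field k] {V : Type*} [AddCommGroup V] [Module k V]

theorem invariant_submodule_eq_bot_or_top (ρ : Representation k G V) [ρ.IsIrreducible]
    (W : Submodule k V) (hW : ∀ g : G, ∀ v ∈ W, ρ g v ∈ W) : W = ⊥ ∨ W = ⊤ := by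
  rcases IsSimpleOrder.eq_bot_or_eq_top (⟨W, fun g v hv => hW g v hv⟩ : Subrepresentation ρ) with
    h | h
  · exact Or.inl (congrArg Subrepresentation.toSubmodule h)
  · exact Or.inr (congrArg Subrepresentation.toSubmodule h)

theorem finrank_pos_of_isIrreducible (ρ : Representation k G V) [ρ.IsIrreducible]
    [FiniteDimensional k V] : 0 < Module.finrank k V := by
  rw [Nat.pos_iff_ne_zero]
  intro h
  have hsub : Subsingleton V := Module.finrank_zero_iff.1 h
  have : (⊥ : Subrepresentation ρ) = ⊤ := by
    apply Subrepresentation.toSubmodule_injective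
    exact Subsingleton.elim _ _
  exact bot_ne_top this

/-- A commuting family of operators has a common eigenvector. -/
theorem exists_common_eigenvector [IsAlgClosed k] [FiniteDimensional k V] [Nontrivial V]
    {ι : Type*} (f : ι → Module.End k V) (hcomm : ∀ i j, f i * f j = f j * f i) :
    ∃ v : V, v ≠ 0 ∧ ∀ i, ∃ c : k, f i v = c • v := by
  suffices h : ∀ n : ℕ, ∀ W : Submodule k V, Module.finrank k W = n → W ≠ ⊥ →
      (∀ i, ∀ v ∈ W, f i v ∈ W) → ∃ v : V, v ≠ 0 ∧ ∀ i, ∃ c : k, f i v = c • v from
    h _ ⊤ rfl top_ne_bot (fun _ _ _ => Submodule.mem_top)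
  intro n
  induction n using Nat.strong_induction_on with
  | _ n ih =>
    intro W hn hW hinv
    obtain ⟨v₀, hv₀, hv₀ne⟩ := W.ne_bot_iff.1 hW
    by_cases hall : ∀ i, ∃ c : k, f i v₀ = c • v₀
    · exact ⟨v₀, hv₀ne, hall⟩
    push Not at hall
    obtain ⟨i, hi⟩ := hall
    have : Nontrivial W := Submodule.nontrivial_iff_ne_bot.2 hW
    obtain ⟨c, hc⟩ := Module.End.exists_eigenvalue ((f i).restrict (hinv i))
    obtain ⟨w, hw⟩ := hc.exists_hasEigenvector
    let W' : Submodule k V := W ⊓ Module.End.eigenspace (f i) c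
    have hmem : (w : V) ∈ W' := by
      refine ⟨w.2, Module.End.mem_eigenspace_iff.2 ?_⟩
      have := congrArg Subtype.val hw.apply_eq_smul
      simpa using this
    have hne : W' ≠ ⊥ := by
      intro h
      rw [h, Submodule.mem_bot] at hmem
      exact hw.2 (Subtype.ext hmem)
    have hlt : W' < W := by
      refine lt_of_le_of_ne inf_le_left fun h => hi c ?_
      have : v₀ ∈ W' := h.symm ▸ hv₀
      exact Module.End.mem_eigenspace_iff.1 this.2
    refine ih _ (hn ▸ Submodule.finrank_lt_finrank_of_lt hlt) W' rfl hne ?_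
    rintro j v ⟨hv, hv'⟩
    refine ⟨hinv j v hv, Module.End.mem_eigenspace_iff.2 ?_⟩
    have h1 := LinearMap.congr_fun (hcomm i j) v
    simp only [Module.End.mul_apply] at h1
    rw [h1, Module.End.mem_eigenspace_iff.1 hv', map_smul]

end Cfsg.Agent.H26
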