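import Cfsg.Agent.H26.Invol
import Mathlib.GroupTheory.SpecificGroups.KleinFour
import Mathlib.GroupTheory.Transfer

/-!
Fusion of involutions in a group whose Sylow 2-subgroups are Klein four-groups.
-/

set_option autoImplicit false

namespace Cfsg.Agent.H26

variable {G : Type*} [Group G] [Finite G]

private theorem klein_cases {P : Subgroup G} (hP : IsKleinFour P) {a b : P} (ha : a ≠ 1)
    (hb : b ≠ 1) (hab : a ≠ b) (x : P) : x = 1 ∨ x = a ∨ x = b ∨ x = a * b := by
  haveI := hP
  by_cases h1 : x = 1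
  · exact Or.inl h1
  by_cases h2 : x = a
  · exact Or.inr (Or.inl h2)
  by_cases h3 : x = b
  · exact Or.inr (Or.inr (Or.inl h3))
  exact Or.inr (Or.inr (Or.inr (IsKleinFour.eq_mul_of_ne_all ha hb hab h1 h2 h3)))

/-- Either fusion of involutions in a Klein Sylow subgroup is trivial or it is transitive. -/
theorem klein_fusion (P : Sylow 2 G) (hP : IsKleinFour (P : Subgroup G)) {a b : (P : Subgroup G)}
    (ha : a ≠ 1) (hb : b ≠ 1) (hab : a ≠ b) (hconj : IsConj (a : G) b) :
    IsConj (a : G) ((a * b : (P : Subgroup G)) : G) := by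
  have : Fact (Nat.Prime 2) := ⟨Nat.prime_two⟩
  haveI := hP
  have : IsMulCommutative (P : Subgroup G) := IsKleinFour.isMulCommutative
  obtain ⟨g, hg⟩ := isConj_iff.1 hconj
  obtain ⟨n, hn, hneq⟩ := P.conj_eq_normalizer_conj_of_mem (a : G) g⁻¹ a.2 (by
    rw [inv_inv, hg]; exact b.2)
  rw [inv_inv, hg] at hneq
  by_contra hnc
  have hnorm : ∀ x : (P : Subgroup G), n⁻¹ * (x : G) * n ∈ (P : Subgroup G) := fun x => by
    have := (Subgroup.mem_normalizer_iff.1 (inv_mem hn) (x : G)).1 x.2
    simpa using this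
  have hswap : n⁻¹ * (b : G) * n = a := by
    have hmem := hnorm b
    have hab' : IsConj (a : G) (n⁻¹ * (b : G) * n) :=
      hconj.trans (isConj_iff.2 ⟨n⁻¹, by group⟩)
    rcases klein_cases hP ha hb hab ⟨_, hmem⟩ with h | h | h | h <;>
      replace h : n⁻¹ * (b : G) * n = _ := congrArg Subtype.val h
    · exfalso; apply hb; apply Subtype.ext
      rw [Subgroup.coe_one] at h ⊢
      simpa [inv_mul_eq_one, mul_assoc] using h
    · exact h
    · exfalso; apply hab; apply Subtype.ext
      have h2 : n⁻¹ * (b : G) * n = n⁻¹ * (a : G) * n := h.trans hneq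
      exact (mul_left_cancel (mul_right_cancel h2)).symm
    · exact absurd (h ▸ hab') hnc
  have hodd : ∀ j : ℕ, (n ^ (2 * j + 1))⁻¹ * (a : G) * n ^ (2 * j + 1) = b := by
    intro j
    induction j with
    | zero => simpa using hneq.symm
    | succ j ih =>
      have h2 : n ^ (2 * (j + 1) + 1) = n ^ (2 * j + 1) * n * n := by
        simp [pow_succ, mul_add, mul_assoc]
      rw [h2]
      calc (n ^ (2 * j + 1) * n * n)⁻¹ * (a : G) * (n ^ (2 * j + 1) * n * n)
          = n⁻¹ * (n⁻¹ * ((n ^ (2 * j + 1))⁻¹ * (a : G) * n ^ (2 * j + 1)) * n) * n := by group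
        _ = b := by rw [ih, hswap, ← hneq]
  obtain ⟨e, m, ⟨j, hj⟩, hord⟩ := Nat.exists_eq_two_pow_mul_odd (orderOf_pos n).ne'
  have hmem : n ^ m ∈ (P : Subgroup G) := by
    have hp : IsPGroup 2 (Subgroup.zpowers (n ^ m)) := by
      intro x
      obtain ⟨x, k, rfl⟩ := x
      refine ⟨e, Subtype.ext ?_⟩
      show ((n ^ m) ^ k) ^ 2 ^ e = 1
      rw [← zpow_natCast (_ ^ k), ← zpow_mul, mul_comm, zpow_mul, zpow_natCast, ← pow_mul,
        mul_comm m, ← hord, pow_orderOf_eq_one, one_zpow]
    have hle : Subgroup.zpowers (n ^ m) ≤ Subgroup.normalizer ((P : Subgroup G) : Set G) :=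
      Subgroup.zpowers_le.2 (pow_mem hn m)
    have hsup := P.3 (P.2.to_sup_of_normal_left' hp hle) le_sup_left
    exact hsup.le (Subgroup.mem_sup_right (Subgroup.mem_zpowers _))
  apply hab
  apply Subtype.ext
  rw [← hodd j, ← hj]
  have hc : (a : G) * n ^ m = n ^ m * a :=
    congrArg Subtype.val (mul_comm' (a := a) (b := (⟨n ^ m, hmem⟩ : (P : Subgroup G))))
  calc (a : G) = (n ^ m)⁻¹ * (n ^ m * (a : G)) := by group
    _ = (n ^ m)⁻¹ * (a : G) * n ^ m := by rw [← hc, mul_assoc]

theorem klein_class_map (P : Sylow 2 G) (hP : IsKleinFour (P : Subgroup G)) :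
    ∃ f : {x : (P : Subgroup G) // x ≠ 1} →
        {C : ConjClasses G // ∃ t : G, orderOf t = 2 ∧ ConjClasses.mk t = C},
      Function.Surjective f ∧ ∀ x, (f x).1 = ConjClasses.mk ((x.1 : (P : Subgroup G)) : G) := by
  have : Fact (Nat.Prime 2) := ⟨Nat.prime_two⟩
  haveI := hP
  have hord : ∀ x : {x : (P : Subgroup G) // x ≠ 1}, orderOf ((x.1 : (P : Subgroup G)) : G) = 2 :=
    fun x => by
      rw [Subgroup.orderOf_coe]
      exact orderOf_two_of_mul_self (IsKleinFour.mul_self _) x.2
  refine ⟨fun x => ⟨_, _, hord x, rfl⟩, ?_, fun x => rfl⟩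
  rintro ⟨C, t, ht, rfl⟩
  obtain ⟨Q, hQ⟩ := (IsPGroup.of_card (p := 2) (G := Subgroup.zpowers t) (n := 1) (by
    rw [Nat.card_zpowers, ht, pow_one])).exists_le_sylow
  obtain ⟨g, hg⟩ := MulAction.exists_smul_eq G Q P
  have hmem : g * t * g⁻¹ ∈ (P : Subgroup G) := by
    rw [← hg, Sylow.coe_subgroup_smul]
    exact ⟨t, hQ (Subgroup.mem_zpowers t), rfl⟩
  refine ⟨⟨⟨_, hmem⟩, fun h => ?_⟩, Subtype.ext ?_⟩
  · apply ne_one_of_orderOf_two ht
    simpa using congrArg Subtype.val h
  · exact ConjClasses.mk_eq_mk_iff_isConj.2 (isConj_comm.1 (isConj_iff.2 ⟨g, rfl⟩))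

theorem card_klein_involutions {P : Subgroup G} (hP : IsKleinFour P) :
    Nat.card {x : P // x ≠ 1} = 3 := by
  classical
  haveI := hP
  have : Fintype P := Fintype.ofFinite _
  rw [Nat.card_eq_fintype_card, Fintype.card_subtype_compl, Fintype.card_subtype_eq,
    IsKleinFour.card_four']

theorem klein_classes_one_or_three (P : Sylow 2 G) (hP : IsKleinFour (P : Subgroup G)) :
    Nat.card {C : ConjClasses G // ∃ t : G, orderOf t = 2 ∧ ConjClasses.mk t = C} = 1 ∨
    Nat.card {C : ConjClasses G // ∃ t : G, orderOf t = 2 ∧ ConjClasses.mk t = C} = 3 := by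
  obtain ⟨f, hf, hval⟩ := klein_class_map P hP
  by_cases hinj : Function.Injective f
  · exact Or.inr ((Nat.card_congr (Equiv.ofBijective f ⟨hinj, hf⟩)).symm.trans (card_klein_involutions hP))
  left
  rw [Function.Injective] at hinj
  push Not at hinj
  obtain ⟨a, b, hfab, hne⟩ := hinj
  have hab : a.1 ≠ b.1 := fun h => hne (Subtype.ext h)
  have hconj : IsConj (a.1 : G) (b.1 : G) := by
    rw [← ConjClasses.mk_eq_mk_iff_isConj, ← hval, ← hval, hfab]
  have h3 := klein_fusion P hP a.2 b.2 hab hconj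
  rw [Nat.card_eq_one_iff_unique]
  have hall : ∀ C, C = f a := by
    intro C
    obtain ⟨x, rfl⟩ := hf C
    apply Subtype.ext
    rw [hval, hval, ConjClasses.mk_eq_mk_iff_isConj]
    rcases klein_cases hP a.2 b.2 hab x.1 with h | h | h | h
    · exact absurd h x.2
    · rw [h]
    · rw [h]; exact hconj.symm
    · rw [h]; exact h3.symm
  exact ⟨⟨fun C D => (hall C).trans (hall D).symm⟩, ⟨f a⟩⟩

theorem klein_classes_three_iff (P : Sylow 2 G) (hP : IsKleinFour (P : Subgroup G)) :
    Nat.card {C : ConjClasses G // ∃ t : G, orderOf t = 2 ∧ ConjClasses.mk t = C} = 3 ↔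
      ∃ N : Subgroup G, N.Normal ∧ Subgroup.IsComplement' N (P : Subgroup G) := by
  have : Fact (Nat.Prime 2) := ⟨Nat.prime_two⟩
  classical
  have : Finite (ConjClasses G) := Finite.of_surjective _ ConjClasses.mk_surjective
  obtain ⟨f, hf, hval⟩ := klein_class_map P hP
  haveI := hP
  constructor
  · intro h3
    have : Fintype {x : (P : Subgroup G) // x ≠ 1} := Fintype.ofFinite _
    have : Fintype {C : ConjClasses G // ∃ t : G, orderOf t = 2 ∧ ConjClasses.mk t = C} :=
      Fintype.ofFinite _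
    have hbij : Function.Bijective f := by
      rw [Fintype.bijective_iff_surjective_and_card, ← Nat.card_eq_fintype_card,
        ← Nat.card_eq_fintype_card, h3, card_klein_involutions hP]
      exact ⟨hf, rfl⟩
    have hle : Subgroup.normalizer ((P : Subgroup G) : Set G) ≤
        Subgroup.centralizer ((P : Subgroup G) : Set G) := by
      intro n hn
      rw [Subgroup.mem_centralizer_iff]
      intro x hx
      by_cases h1 : x = 1
      · simp [h1]
      have hmem := (Subgroup.mem_normalizer_iff.1 hn x).1 hx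
      let u : {x : (P : Subgroup G) // x ≠ 1} := ⟨⟨x, hx⟩, fun h => h1 (congrArg Subtype.val h)⟩
      let v : {x : (P : Subgroup G) // x ≠ 1} := ⟨⟨n * x * n⁻¹, hmem⟩, fun h => h1 (by
        simpa using congrArg Subtype.val h)⟩
      have : u = v := hbij.1 (Subtype.ext (by
        rw [hval, hval, ConjClasses.mk_eq_mk_iff_isConj]; exact isConj_iff.2 ⟨n, rfl⟩))
      have hx' : x = n * x * n⁻¹ := congrArg (fun w => ((w.1 : (P : Subgroup G)) : G)) this
      calc x * n = n * x * n⁻¹ * n := by rw [← hx']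
        _ = n * x := by group
    exact ⟨_, MonoidHom.normal_ker _, MonoidHom.ker_transferSylow_isComplement' P hle⟩
  · rintro ⟨N, hN, hcompl⟩
    have hinj : Function.Injective f := by
      intro u v huv
      have hc : IsConj ((u.1 : (P : Subgroup G)) : G) ((v.1 : (P : Subgroup G)) : G) := by
        rw [← ConjClasses.mk_eq_mk_iff_isConj, ← hval, ← hval, huv]
      obtain ⟨g, hg⟩ := isConj_iff.1 hc
      obtain ⟨⟨⟨q, hq⟩, ⟨r, hr⟩⟩, he⟩ := hcompl.2 g
      replace he : q * r = g := he
      have : IsMulCommutative (P : Subgroup G) := IsKleinFour.isMulCommutative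
      have hcomm : r * ((u.1 : (P : Subgroup G)) : G) = ((u.1 : (P : Subgroup G)) : G) * r :=
        congrArg Subtype.val (mul_comm' (a := (⟨r, hr⟩ : (P : Subgroup G))) (b := u.1))
      set a := ((u.1 : (P : Subgroup G)) : G) with hadef
      set b := ((v.1 : (P : Subgroup G)) : G) with hbdef
      have hbq : b = q * a * q⁻¹ := by
        rw [← hg, ← he]
        calc q * r * a * (q * r)⁻¹ = q * (r * a) * r⁻¹ * q⁻¹ := by group
          _ = q * a * q⁻¹ := by rw [hcomm]; group
      have hin : b * a⁻¹ ∈ N := by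
        rw [hbq, show q * a * q⁻¹ * a⁻¹ = q * (a * q⁻¹ * a⁻¹) by group]
        exact mul_mem hq (hN.conj_mem _ (inv_mem hq) a)
      have hone : b * a⁻¹ = 1 := Subgroup.disjoint_def.1 hcompl.disjoint hin
        (mul_mem v.1.2 (inv_mem u.1.2))
      exact Subtype.ext (Subtype.ext (mul_inv_eq_one.1 hone).symm)
    exact (Nat.card_congr (Equiv.ofBijective f ⟨hinj, hf⟩)).symm.trans (card_klein_involutions hP)

end Cfsg.Agent.H26
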