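import Cfsg.Agent.BlockBasic.Local
import Cfsg.Agent.CharBasic.Complete
import Cfsg.Agent.CharBasic.Integral
import Mathlib.LinearAlgebra.Matrix.NonsingularInverse
import Mathlib.RingTheory.RootsOfUnity.Complex

/-!
Characters of p-defect zero vanish at p-singular elements, by congruent idempotent matrices over
a local ring.
-/

set_option autoImplicit false

namespace Cfsg.Agent.H26

open BlockBasic Matrix

section Congruent

variable {R : Type*} [CommRing R]

/-- Two idempotent matrices which agree modulo the maximal ideal of a local ring have equal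
traces. -/
theorem trace_eq_of_idempotent_congr {ι : Type*} [Fintype ι] [DecidableEq ι] (P : Ideal R)
    [hP : P.IsPrime] (hunit : ∀ r : R, r ∉ P → IsUnit r) (A B : Matrix ι ι R) (hA : A * A = A)
    (hB : B * B = B) (hAB : ∀ i j, A i j - B i j ∈ P) : A.trace = B.trace := by
  set π := Ideal.Quotient.mk P with hπ
  set C := A * B + (1 - A) * (1 - B) with hC
  have hmap : π.mapMatrix A = π.mapMatrix B := by
    ext i j
    simp only [RingHom.mapMatrix_apply, Matrix.map_apply, hπ]
    exact Ideal.Quotient.eq.2 (hAB i j)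
  have hC1 : π.mapMatrix C = 1 := by
    have hA' : π.mapMatrix A * π.mapMatrix A = π.mapMatrix A := by rw [← map_mul, hA]
    simp only [hC, map_add, map_mul, map_sub, map_one, ← hmap]
    simp only [mul_sub, sub_mul, mul_one, one_mul, hA']
    abel
  have hdet : IsUnit C.det := by
    refine hunit _ fun hmem => ?_
    have h1 : π C.det = (π.mapMatrix C).det := RingHom.map_det π C
    rw [hC1, Matrix.det_one, show π C.det = 0 from Ideal.Quotient.eq_zero_iff_mem.2 hmem] at h1
    exact hP.ne_top ((Ideal.eq_top_iff_one P).2 (Ideal.Quotient.eq_zero_iff_mem.1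
      (h1.symm.trans rfl : π 1 = 0)))
  have hAC : A * C = C * B := by
    have e1 : A * C = A * B := by
      simp only [hC, Matrix.mul_add, ← Matrix.mul_assoc, Matrix.mul_sub, Matrix.mul_one, hA, sub_self,
        Matrix.zero_mul, add_zero]
    have e2 : C * B = A * B := by
      simp only [hC, Matrix.add_mul, Matrix.mul_assoc, Matrix.sub_mul, Matrix.one_mul, hB, sub_self,
        Matrix.mul_zero, sub_zero, add_zero]
    rw [e1, e2]
  calc A.trace = (A * C * C⁻¹).trace := by
        rw [Matrix.mul_assoc, Matrix.mul_nonsing_inv _ hdet, Matrix.mul_one]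
    _ = (C * B * C⁻¹).trace := by rw [hAC]
    _ = B.trace := by
        rw [Matrix.trace_mul_comm, ← Matrix.mul_assoc, Matrix.nonsing_inv_mul _ hdet, Matrix.one_mul]

end Congruent

variable {G : Type*} [Group G] [Fintype G]

theorem convolution_idem {N : ℕ} [NeZero N] {Q : Type*} [Fintype Q] (F : G → G → ℂ)
    (hidem : ∀ g h, ∑ u : G, F g u * F u h = F g h) (pw : ZMod N → G) (φ : ZMod N → ℂ)
    (hpw : ∀ i j, pw (i + j) = pw i * pw j) (hφ : ∀ i j, φ (i + j) = φ i * φ j)
    (hinv : ∀ i g h, F (pw i * g) (pw i * h) = F g h) (t : Q → G) (e : ZMod N × Q ≃ G)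
    (he : ∀ z, e z = pw z.1 * t z.2) (l : ZMod N) (q s : Q) :
    ∑ u : Q, (∑ i, φ (l * i) * F (pw i * t q) (t u)) * (∑ j, φ (l * j) * F (pw j * t u) (t s)) =
      ∑ k, φ (l * k) * F (pw k * t q) (t s) := by
  calc ∑ u : Q, (∑ i, φ (l * i) * F (pw i * t q) (t u)) * (∑ j, φ (l * j) * F (pw j * t u) (t s))
      = ∑ u : Q, ∑ j, ∑ k, φ (l * k) * (F (pw k * t q) (pw j * t u) * F (pw j * t u) (t s)) := by
        refine Finset.sum_congr rfl fun u _ => ?_
        rw [Finset.sum_mul_sum, Finset.sum_comm]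
        refine Finset.sum_congr rfl fun j _ => ?_
        refine Fintype.sum_equiv (Equiv.addRight j) _ _ fun i => ?_
        simp only [Equiv.coe_addRight]
        have hF : F (pw (i + j) * t q) (pw j * t u) = F (pw i * t q) (t u) := by
          rw [add_comm, hpw, mul_assoc, hinv]
        rw [hF, mul_add, hφ]
        ring
    _ = ∑ k, φ (l * k) * ∑ z : ZMod N × Q, F (pw k * t q) (e z) * F (e z) (t s) := by
        simp only [Finset.mul_sum, Fintype.sum_prod_type, he]
        rw [Finset.sum_comm]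
        conv_rhs => rw [Finset.sum_comm]
        refine Finset.sum_congr rfl fun j _ => ?_
        rw [Finset.sum_comm]
    _ = _ := by
        refine Finset.sum_congr rfl fun k _ => ?_
        rw [e.sum_comp (fun v => F (pw k * t q) v * F v (t s)), hidem]

/-- An idempotent kernel with local-integral entries, invariant under left translation by an
element of order divisible by `p`, has translated trace zero. -/
theorem translated_trace_eq_zero {p : ℕ} {M : Ideal AlgInt} (hM : Cfsg.IsPModular p M) {x : G}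
    (hx : p ∣ orderOf x) (F : G → G → ℂ) (hmem : ∀ g h, F g h ∈ locRing hM)
    (hidem : ∀ g h, ∑ u : G, F g u * F u h = F g h) (hinv : ∀ g h, F (x * g) (x * h) = F g h) :
    ∑ g : G, F (x * g) g = 0 := by
  classical
  have hp := hM.1
  obtain ⟨N, hN⟩ : ∃ N, N = orderOf x := ⟨_, rfl⟩
  rw [← hN] at hx
  have hNpos : 0 < N := hN ▸ orderOf_pos x
  have : NeZero N := ⟨hNpos.ne'⟩
  obtain ⟨a, m, hpm, hNm⟩ := Nat.exists_eq_pow_mul_and_not_dvd hNpos.ne' p hp.ne_one
  have ha : a ≠ 0 := by
    rintro rfl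
    rw [pow_zero, one_mul] at hNm
    exact hpm (hNm ▸ hx)
  -- powers of x indexed modulo N
  let pw : ZMod N → G := fun i => x ^ i.val
  have hpw : ∀ i j, pw (i + j) = pw i * pw j := by
    intro i j
    simp only [pw, ZMod.val_add, ← pow_add]
    conv_rhs => rw [← pow_mod_orderOf, ← hN]
  have hinv' : ∀ (i : ZMod N) g h, F (pw i * g) (pw i * h) = F g h := by
    intro i
    suffices ∀ k : ℕ, ∀ g h, F (x ^ k * g) (x ^ k * h) = F g h from this _
    intro k
    induction k with
    | zero => intro g h; simp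
    | succ k ih => intro g h; rw [pow_succ', mul_assoc, mul_assoc, hinv, ih]
  -- a root of unity of order N in the local ring
  set ω := Complex.exp (2 * Real.pi * Complex.I / N) with hω
  have hωp : IsPrimitiveRoot ω N := Complex.isPrimitiveRoot_exp N hNpos.ne'
  have hωR : ω ∈ locRing hM := memLocalRing_of_isIntegral hM (IsIntegral.of_pow hNpos (by rw [hωp.pow_eq_one]; exact isIntegral_one))
  obtain ⟨ψ, hψdef⟩ : ∃ ψ : ZMod N → locRing hM, ∀ i, ψ i = ⟨ω, hωR⟩ ^ i.val :=
    ⟨_, fun _ => rfl⟩
  have hψN : (⟨ω, hωR⟩ : locRing hM) ^ N = 1 := Subtype.ext (by push_cast; exact hωp.pow_eq_one)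
  have hψ : ∀ i j, ψ (i + j) = ψ i * ψ j := by
    intro i j
    simp only [hψdef, ZMod.val_add, ← pow_add]
    conv_rhs => rw [← Nat.mod_add_div (i.val + j.val) N, pow_add, pow_mul, hψN, one_pow, mul_one]
  have hψ0 : ψ 0 = 1 := by simp only [hψdef, ZMod.val_zero, pow_zero]
  have hψne : ∀ k : ZMod N, k ≠ 0 → ψ k ≠ 1 := by
    intro k hk h
    have h1 : ω ^ k.val = 1 := by simpa [hψdef] using congrArg (fun r : locRing hM => (r : ℂ)) h
    have h2 := Nat.eq_zero_of_dvd_of_lt (hωp.dvd_of_pow_eq_one _ h1) (ZMod.val_lt k)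
    exact hk ((ZMod.val_eq_zero k).1 h2)
  -- the transversal
  let r : Setoid G := QuotientGroup.rightRel (Subgroup.zpowers x)
  have : Fintype (Quotient r) := Fintype.ofFinite _
  have hbij : Function.Bijective (fun z : ZMod N × Quotient r => pw z.1 * z.2.out) := by
    constructor
    · rintro ⟨i, q⟩ ⟨j, s⟩ h
      simp only at h
      have hqs : q = s := by
        rw [← q.out_eq, ← s.out_eq]
        refine Quotient.sound ?_
        show QuotientGroup.rightRel (Subgroup.zpowers x) q.out s.out
        rw [QuotientGroup.rightRel_apply]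
        have : s.out * q.out⁻¹ = (pw j)⁻¹ * pw i := by
          rw [eq_inv_mul_iff_mul_eq, ← mul_assoc, ← h, mul_inv_cancel_right]
        rw [this]
        exact mul_mem (inv_mem (pow_mem (Subgroup.mem_zpowers x) _)) (pow_mem (Subgroup.mem_zpowers x) _)
      subst hqs
      have h' : x ^ i.val = x ^ j.val := mul_right_cancel h
      rw [pow_eq_pow_iff_modEq, ← hN, Nat.ModEq, Nat.mod_eq_of_lt (ZMod.val_lt i),
        Nat.mod_eq_of_lt (ZMod.val_lt j)] at h'
      exact Prod.ext (ZMod.val_injective N h') rfl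
    · intro g
      have hrel : g * ((⟦g⟧ : Quotient r).out)⁻¹ ∈ Subgroup.zpowers x :=
        QuotientGroup.rightRel_apply.1 (Quotient.mk_out (s := r) g)
      rw [← mem_powers_iff_mem_zpowers] at hrel
      obtain ⟨k, hk⟩ := hrel
      refine ⟨((k : ZMod N), ⟦g⟧), ?_⟩
      show x ^ ((k : ZMod N)).val * _ = g
      rw [ZMod.val_natCast, hN, pow_mod_orderOf]
      exact (eq_mul_inv_iff_mul_eq.1 hk)
  obtain ⟨e, he⟩ : ∃ e : ZMod N × Quotient r ≃ G, ∀ z, e z = pw z.1 * z.2.out :=
    ⟨Equiv.ofBijective _ hbij, fun z => rfl⟩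
  let A : ZMod N → Matrix (Quotient r) (Quotient r) (locRing hM) := fun l q s =>
    ∑ i : ZMod N, ψ (l * i) * ⟨F (pw i * q.out) s.out, hmem _ _⟩
  have hAidem : ∀ l, A l * A l = A l := by
    intro l
    refine Matrix.ext fun q s => Subtype.ext ?_
    rw [Matrix.mul_apply]
    simp only [A, AddSubmonoidClass.coe_finsetSum, Subring.coe_mul]
    exact @convolution_idem G _ _ N _ (Quotient r) _ F hidem pw (fun i => (ψ i : ℂ)) hpw
      (fun i j => by rw [hψ, Subring.coe_mul]) hinv' (fun q => q.out) e he l q s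
  -- the traces are periodic modulo m
  have hψm : ∀ i : ZMod N, ψ ((m : ZMod N) * i) - 1 ∈ locMax hM := by
    intro i
    have := locMax_isMaximal hM
    set π := Ideal.Quotient.mk (locMax hM)
    have : CharP (locRing hM ⧸ locMax hM) p := by
      refine (CharP.charP_iff_prime_eq_zero hp).2 ?_
      rw [← map_natCast π]
      exact Ideal.Quotient.eq_zero_iff_mem.2 (natCast_p_mem_locMax hM)
    have : Fact p.Prime := ⟨hp⟩
    have hpow : ψ ((m : ZMod N) * i) ^ p ^ a = 1 := by
      have : ∀ k : ℕ, ∀ j, ψ j ^ k = ψ (k * j) := by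
        intro k j
        induction k with
        | zero => simp [hψ0]
        | succ k ih => rw [pow_succ, ih, ← hψ, Nat.cast_succ, add_mul, one_mul]
      rw [this, ← mul_assoc, ← Nat.cast_mul, ← hNm, ZMod.natCast_self, zero_mul, hψ0]
    have h0 : (π (ψ ((m : ZMod N) * i)) - 1) ^ p ^ a = 0 := by
      rw [sub_pow_char_pow, one_pow, ← map_pow, hpow, map_one, sub_self]
    refine Ideal.Quotient.eq_zero_iff_mem.1 ?_
    rw [map_sub, map_one]
    exact pow_eq_zero_iff (pow_ne_zero a hp.ne_zero) |>.1 h0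
  have hper : ∀ l, (A (l + m)).trace = (A l).trace := by
    intro l
    have := (locMax_isMaximal hM).isPrime
    refine trace_eq_of_idempotent_congr (locMax hM)
      (fun r hr => (isUnit_iff_not_mem_locMax hM r).2 hr) _ _ (hAidem _) (hAidem _) fun q s => ?_
    simp only [A, ← Finset.sum_sub_distrib]
    refine Submodule.sum_mem _ fun i _ => ?_
    rw [add_mul, hψ, ← sub_mul, ← mul_sub_one]
    exact Ideal.mul_mem_right _ _ (Ideal.mul_mem_left _ _ (hψm i))
  -- Fourier inversion
  let c : ZMod N → locRing hM := fun i =>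
    ∑ q : Quotient r, ⟨F (pw i * q.out) q.out, hmem _ _⟩
  have htr : ∀ l, (A l).trace = ∑ i, ψ (l * i) * c i := by
    intro l
    simp only [Matrix.trace, Matrix.diag, A, c]
    rw [Finset.sum_comm]
    simp [Finset.mul_sum]
  have horth : ∀ k : ZMod N, ∑ l, ψ (l * k) = if k = 0 then (N : locRing hM) else 0 := by
    intro k
    split_ifs with hk
    · subst hk; simp [hψ0]
    · have h1 : ψ k * ∑ l, ψ (l * k) = ∑ l, ψ (l * k) := by
        rw [Finset.mul_sum]
        refine Fintype.sum_equiv (Equiv.addRight 1) _ _ fun l => ?_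
        simp only [Equiv.coe_addRight, add_mul, one_mul, hψ]
        ring
      have h2 : (ψ k - 1) * ∑ l, ψ (l * k) = 0 := by rw [sub_mul, one_mul, h1, sub_self]
      exact (mul_eq_zero.1 h2).resolve_left (sub_ne_zero.2 (hψne k hk))
  set T := ∑ l, ψ (-l) * (A l).trace with hT
  have hT1 : T = (N : locRing hM) * c 1 := by
    simp only [hT, htr, Finset.mul_sum]
    rw [Finset.sum_comm]
    have : ∀ i, ∑ l, ψ (-l) * (ψ (l * i) * c i) = (∑ l, ψ (l * (i - 1))) * c i := by
      intro i
      rw [Finset.sum_mul]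
      refine Finset.sum_congr rfl fun l _ => ?_
      rw [← mul_assoc, ← hψ]
      congr 2; ring
    simp only [this, horth, sub_eq_zero, ite_mul, zero_mul, Finset.sum_ite_eq', Finset.mem_univ, if_true]
  have hm0 : (-(m : ZMod N)) ≠ 0 := by
    rw [neg_ne_zero, Ne, ZMod.natCast_eq_zero_iff]
    intro h
    have hmpos : 0 < m := Nat.pos_of_ne_zero fun h0 => hpm (h0 ▸ dvd_zero p)
    have := Nat.le_of_dvd hmpos h
    have h2 : 2 ≤ p ^ a := le_trans hp.two_le (Nat.le_self_pow ha p)
    nlinarith
  have hT2 : ψ (-(m : ZMod N)) * T = T := by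
    rw [hT, Finset.mul_sum]
    refine Fintype.sum_equiv (Equiv.addRight (m : ZMod N)) _ _ fun l => ?_
    simp only [Equiv.coe_addRight]
    rw [hper, ← mul_assoc, ← hψ]
    congr 2; ring
  have hT0 : T = 0 := by
    have h2 : (ψ (-(m : ZMod N)) - 1) * T = 0 := by rw [sub_mul, one_mul, hT2, sub_self]
    exact (mul_eq_zero.1 h2).resolve_left (sub_ne_zero.2 (hψne _ hm0))
  have hc1 : c 1 = 0 := by
    rw [hT0] at hT1
    exact (mul_eq_zero.1 hT1.symm).resolve_left
      (fun h => hNpos.ne' (by simpa using congrArg (fun r : locRing hM => (r : ℂ)) h))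
  -- the translated trace
  have hx1 : x = pw 1 := by
    show x = x ^ (1 : ZMod N).val
    rw [← Nat.cast_one (R := ZMod N), ZMod.val_natCast, hN, pow_mod_orderOf, pow_one]
  have hc1' : ∑ q : Quotient r, F (x * q.out) q.out = 0 := by
    rw [hx1]
    simpa [c] using congrArg (fun r : locRing hM => (r : ℂ)) hc1
  rw [← e.sum_comp, Fintype.sum_prod_type]
  refine Finset.sum_eq_zero fun i _ => ?_
  rw [← hc1']
  refine Finset.sum_congr rfl fun q _ => ?_
  rw [he]
  rw [← mul_assoc, hx1, ← hpw, add_comm, hpw, mul_assoc, hinv']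

/-- A character of p-defect zero vanishes at every element of order divisible by p. -/
theorem defect_zero_vanish {V : Type*} [AddCommGroup V] [Module ℂ V] [FiniteDimensional ℂ V]
    (ρ : Representation ℂ G V) [ρ.IsIrreducible] {p n : ℕ} (hp : p.Prime) (hn : p ^ n ∣ Nat.card G)
    (hn' : ¬ p ^ (n + 1) ∣ Nat.card G) (hdeg : p ^ n ∣ Module.finrank ℂ V) {x : G}
    (hx : p ∣ orderOf x) : ρ.character x = 0 := by
  classical
  obtain ⟨M, hM⟩ := exists_isPModular hp
  obtain ⟨d', hd'⟩ := hdeg
  obtain ⟨m', hm'⟩ := hn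
  have hm'p : ¬ p ∣ m' := fun h => hn' (by rw [hm', pow_succ]; exact Nat.mul_dvd_mul_left _ h)
  have hG0 : (Nat.card G : ℂ) ≠ 0 := Nat.cast_ne_zero.2 Nat.card_pos.ne'
  set d := Module.finrank ℂ V with hd
  have hd0 : (d : ℂ) ≠ 0 := Nat.cast_ne_zero.2 (CharBasic.finrank_pos_of_isIrreducible ρ).ne'
  let F : G → G → ℂ := fun g h => (d : ℂ) / (Nat.card G : ℂ) * ρ.character (g⁻¹ * h)
  have hmem : ∀ g h, F g h ∈ locRing hM := by
    intro g h
    refine mul_mem ?_ (memLocalRing_of_isIntegral hM (CharBasic.isIntegral_character ρ _))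
    have hq : (d : ℂ) / (Nat.card G : ℂ) = (d' : ℂ) * (m' : ℂ)⁻¹ := by
      rw [hm', hd']
      have : (p : ℂ) ^ n ≠ 0 := pow_ne_zero _ (Nat.cast_ne_zero.2 hp.ne_zero)
      push_cast
      rw [mul_div_mul_left _ _ this, div_eq_mul_inv]
    rw [hq]
    exact mul_mem (natCast_mem (locRing hM) d') (memLocalRing_natCast_inv hM hm'p)
  have hconv : ∀ k : G, ∑ u : G, ρ.character u * ρ.character (u⁻¹ * k) =
      (Nat.card G : ℂ) / (d : ℂ) * ρ.character k := by
    intro k
    let T : Module.End ℂ V := ∑ u : G, ρ.character u • ρ u⁻¹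
    obtain ⟨c, hc⟩ := CharBasic.schur_scalar ρ T (fun g => by
      simp only [T, Finset.sum_mul, Finset.mul_sum, smul_mul_assoc, mul_smul_comm, ← map_mul]
      refine Fintype.sum_equiv (MulAut.conj g⁻¹).toEquiv _ _ fun u => ?_
      simp only [MulEquiv.toEquiv_eq_coe, MulEquiv.coe_toEquiv, MulAut.conj_apply]
      rw [Representation.char_conj]
      congr 2
      group)
    have h1 : (Nat.card G : ℂ) = c * (d : ℂ) := by
      have := congrArg (LinearMap.trace ℂ V) hc
      rw [map_smul, LinearMap.trace_id, smul_eq_mul] at this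
      rw [← this]
      have hn1 := CharBasic.classInner_irr_self (CharBasic.isIrrCharacter_character ρ)
      rw [CharBasic.classInner_def, inv_mul_eq_iff_eq_mul₀ hG0, mul_one] at hn1
      rw [← hn1]
      simp only [T, map_sum, map_smul, smul_eq_mul, ← CharBasic.character_inv]
      rfl
    have hk : ∑ u : G, ρ.character u * ρ.character (u⁻¹ * k) = LinearMap.trace ℂ V (T * ρ k) := by
      simp only [T, Finset.sum_mul, smul_mul_assoc, map_sum, map_smul, smul_eq_mul, ← map_mul]
      rfl
    rw [hk, hc, smul_mul_assoc, map_smul, smul_eq_mul, h1]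
    field_simp
    rfl
  have hidem : ∀ g h, ∑ u : G, F g u * F u h = F g h := by
    intro g h
    simp only [F]
    calc ∑ u : G, (d : ℂ) / (Nat.card G : ℂ) * ρ.character (g⁻¹ * u) *
          ((d : ℂ) / (Nat.card G : ℂ) * ρ.character (u⁻¹ * h))
        = ((d : ℂ) / (Nat.card G : ℂ)) ^ 2 *
            ∑ v : G, ρ.character v * ρ.character (v⁻¹ * (g⁻¹ * h)) := by
          rw [Finset.mul_sum]
          refine Fintype.sum_equiv (Equiv.mulLeft g⁻¹) _ _ fun u => ?_
          simp only [Equiv.coe_mulLeft]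
          rw [show (g⁻¹ * u)⁻¹ * (g⁻¹ * h) = u⁻¹ * h by group]
          ring
      _ = _ := by rw [hconv]; field_simp
  have hinv : ∀ g h, F (x * g) (x * h) = F g h := by
    intro g h; simp only [F]
    rw [show (x * g)⁻¹ * (x * h) = g⁻¹ * h by group]
  have h := translated_trace_eq_zero hM hx F hmem hidem hinv
  have hval : ∀ g : G, F (x * g) g = (d : ℂ) / (Nat.card G : ℂ) * ρ.character x⁻¹ := by
    intro g
    simp only [F]
    rw [show (x * g)⁻¹ * g = g⁻¹ * x⁻¹ * g⁻¹⁻¹ by group, Representation.char_conj]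
  simp only [hval, Finset.sum_const, Finset.card_univ, nsmul_eq_mul, mul_eq_zero,
    Nat.cast_eq_zero, Fintype.card_ne_zero, false_or, div_eq_zero_iff] at h
  have h' : ρ.character x⁻¹ = 0 := by
    rcases h with (h | h) | h
    · exact absurd h (CharBasic.finrank_pos_of_isIrreducible ρ).ne'
    · exact absurd h Nat.card_pos.ne'
    · exact h
  rw [CharBasic.character_inv, map_eq_zero] at h'
  exact h'

end Cfsg.Agent.H26
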