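import Cfsg.Agent.H26.Invol
import Cfsg.Agent.PGroups.TwoGroups
import Cfsg.Agent.H25.InvolutionTransfer
import Mathlib.Tactic

/-!
Normal four-groups and elementary abelian subgroups of order eight in 2-groups.
-/

set_option autoImplicit false

namespace Cfsg.Agent.H26

variable {G : Type*} [Group G] [Finite G]

/-- A 2-group with an elementary abelian subgroup of order 8 has a normal four-subgroup. -/
theorem exists_normal_four {S : Type*} [Group S] [Finite S] (hS : IsPGroup 2 S) (E : Subgroup S)
    (hE : Nat.card E = 8) (hexp : ∀ e ∈ E, e ^ 2 = 1) :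
    ∃ U : Subgroup S, U.Normal ∧ Nat.card U = 4 ∧ (∀ u ∈ U, u ^ 2 = 1) := by
  have : Fact (Nat.Prime 2) := ⟨Nat.prime_two⟩
  by_contra hcon
  push Not at hcon
  have habcyc : ∀ A : Subgroup S, A.Normal → IsMulCommutative A → IsCyclic A := by
    intro A hAn hA
    by_contra hAc
    let W : Subgroup S :=
      { carrier := {a | a ∈ A ∧ a ^ 2 = 1}
        one_mem' := ⟨one_mem _, one_pow 2⟩
        mul_mem' := fun {a b} ha hb => ⟨mul_mem ha.1 hb.1, by
          rw [(show Commute a b from PGroups.comm_of_isMulCommutative hA ha.1 hb.1).mul_pow, ha.2,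
            hb.2, one_mul]⟩
        inv_mem' := fun {a} ha => ⟨inv_mem ha.1, by rw [inv_pow, ha.2, inv_one]⟩ }
    have hWn : W.Normal := ⟨fun a ha g =>
      ⟨hAn.conj_mem a ha.1 g, by rw [conj_pow, ha.2, mul_one, mul_inv_cancel]⟩⟩
    have hW : 2 ^ 2 ≤ Nat.card W := by
      by_contra hlt
      obtain ⟨m, hm⟩ := IsPGroup.iff_card.mp (hS.to_subgroup W)
      refine hAc (PGroups.isCyclic_of_small_omega hS hA W (fun a ha hap => ⟨ha, hap⟩) ?_)
      rw [hm] at hlt ⊢
      refine (Nat.pow_le_pow_right two_pos (?_ : m ≤ 1)).trans (pow_one 2).le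
      by_contra h2
      exact hlt (Nat.pow_le_pow_right two_pos (by omega))
    obtain ⟨B, hBn, hBW, hB⟩ := PGroups.exists_normal_card_le hS W 2 hW
    obtain ⟨u, hu, hu2⟩ := hcon B hBn (by rw [hB]; norm_num)
    exact hu2 (hBW hu).2
  by_cases hcyc : IsCyclic S
  · have h := PGroups.eq_of_sq_eq_one (H := (⊤ : Subgroup S))
    have h2 : Nat.card E ≤ 2 := by
      classical
      have : Fintype S := Fintype.ofFinite S
      have hle : (Finset.univ.filter fun a : S => a ∈ E) ⊆
          Finset.univ.filter fun a : S => a ^ 2 = 1 := by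
        intro a ha
        simp only [Finset.mem_filter, Finset.mem_univ, true_and] at ha ⊢
        exact hexp a ha
      rw [Nat.card_eq_fintype_card, Fintype.card_subtype]
      exact (Finset.card_le_card hle).trans (IsCyclic.card_pow_eq_one_le two_pos)
    omega
  obtain ⟨k, c, y, hc, hcard, -⟩ := PGroups.structure_of_normal_abelian_cyclic hS hcyc habcyc
  classical
  have : Fintype S := Fintype.ofFinite S
  set C := Subgroup.zpowers c with hC
  have hCc : Nat.card C = 2 ^ k := by rw [hC, Nat.card_zpowers, hc]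
  have hidx : C.index = 2 := by
    have h := C.card_mul_index
    rw [hCc, hcard, pow_succ] at h
    exact Nat.eq_of_mul_eq_mul_left (pow_pos two_pos k) h
  have h1 : (C.subgroupOf E).index ≤ 2 := by
    have := Subgroup.relIndex_le_of_le_right (H := C) (le_top : E ≤ ⊤) (by simp [hidx])
    rwa [Subgroup.relIndex_top_right, hidx] at this
  have h2 := (C.subgroupOf E).card_mul_index
  rw [hE] at h2
  have h3 : Nat.card (C.subgroupOf E) ≤ 2 := by
    have : Fintype C := Fintype.ofFinite C
    let i : (C.subgroupOf E) → {a : C // a ^ 2 = 1} := fun a =>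
      ⟨⟨((a : E) : S), a.2⟩, Subtype.ext (hexp _ a.1.2)⟩
    have hi : Function.Injective i := fun a b h =>
      Subtype.ext (Subtype.ext (congrArg (fun v : {a : C // a ^ 2 = 1} => (v.1 : S)) h))
    refine (Nat.card_le_card_of_injective i hi).trans ?_
    rw [Nat.card_eq_fintype_card, Fintype.card_subtype]
    exact IsCyclic.card_pow_eq_one_le two_pos
  have h4 : Nat.card (C.subgroupOf E) * (C.subgroupOf E).index ≤ 2 * 2 := Nat.mul_le_mul h3 h1
  omega

/-- A four-group and a commuting involution outside it generate an elementary group of order 8. -/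
theorem exists_elementary_eight (U : Subgroup G) (hU : Nat.card U = 4) (hUexp : ∀ u ∈ U, u ^ 2 = 1)
    {f : G} (hf : f ^ 2 = 1) (hfU : f ∉ U) (hcomm : ∀ u ∈ U, Commute u f) :
    ∃ E : Subgroup G, Nat.card E = 8 ∧ (∀ e ∈ E, e ^ 2 = 1) ∧
      ∀ y : G, Commute y f → (∀ u ∈ U, Commute y u) → ∀ e ∈ E, Commute y e := by
  have hff : f * f = 1 := by rw [← pow_two, hf]
  have hUab : ∀ u ∈ U, ∀ v ∈ U, Commute u v := by
    intro u hu v hv
    have hinv : ∀ w ∈ U, w⁻¹ = w := fun w hw =>
      inv_eq_of_mul_eq_one_right (by rw [← pow_two]; exact hUexp w hw)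
    show u * v = v * u
    conv_rhs => rw [← hinv v hv, ← hinv u hu, ← mul_inv_rev]
    rw [hinv _ (mul_mem hu hv)]
  let E : Subgroup G :=
    { carrier := {g | g ∈ U ∨ g * f ∈ U}
      one_mem' := Or.inl (one_mem U)
      mul_mem' := by
        intro a b ha hb
        rcases ha with ha | ha <;> rcases hb with hb | hb
        · exact Or.inl (mul_mem ha hb)
        · exact Or.inr (by rw [mul_assoc]; exact mul_mem ha hb)
        · refine Or.inr ?_
          rw [mul_assoc, (hcomm b hb).eq, ← mul_assoc]
          exact mul_mem ha hb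
        · refine Or.inl ?_
          have hbf : b * f * f = b := by rw [mul_assoc, hff, mul_one]
          have : a * b = a * f * (b * f) := by
            calc a * b = a * (b * f * f) := by rw [hbf]
              _ = a * (f * (b * f)) := by rw [(hcomm _ hb).eq]
              _ = _ := by rw [mul_assoc]
          rw [this]; exact mul_mem ha hb
      inv_mem' := by
        intro a ha
        rcases ha with ha | ha
        · exact Or.inl (inv_mem ha)
        · refine Or.inr ?_
          have hfi : f⁻¹ = f := inv_eq_of_mul_eq_one_right hff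
          have h1 : a⁻¹ = f * (a * f)⁻¹ := by rw [mul_inv_rev, mul_inv_cancel_left]
          rw [h1, mul_assoc, (hcomm _ (inv_mem ha)).eq, ← mul_assoc, hff, one_mul]
          exact inv_mem ha }
  have hmemE : ∀ g, g ∈ E ↔ g ∈ U ∨ g * f ∈ U := fun g => Iff.rfl
  refine ⟨E, ?_, ?_, ?_⟩
  · classical
    have hUE : U ≤ E := fun u hu => Or.inl hu
    have hidx : (U.subgroupOf E).index = 2 := by
      rw [Subgroup.index_eq_two_iff]
      refine ⟨⟨f, Or.inr (by rw [hff]; exact one_mem U)⟩, fun b => ?_⟩
      simp only [Subgroup.mem_subgroupOf, Subgroup.coe_mul]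
      rcases (hmemE b).1 b.2 with h | h
      · refine Or.inr ⟨h, fun h' => hfU ?_⟩
        simpa using mul_mem (inv_mem h) h'
      · refine Or.inl ⟨h, fun h' => hfU ?_⟩
        simpa using mul_mem (inv_mem h') h
    have := (U.subgroupOf E).card_mul_index
    rw [hidx, Nat.card_congr (Subgroup.subgroupOfEquivOfLe hUE).toEquiv, hU] at this
    omega
  · intro e he
    rcases (hmemE e).1 he with h | h
    · exact hUexp e h
    · have he' : e = e * f * f := by rw [mul_assoc, hff, mul_one]
      rw [he', (hcomm _ h).mul_pow, hUexp _ h, hf, one_mul]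
  · intro y hyf hyU e he
    rcases (hmemE e).1 he with h | h
    · exact hyU e h
    · have he' : e = e * f * f := by rw [mul_assoc, hff, mul_one]
      rw [he']
      exact (hyU _ h).mul_right hyf

/-- 2-rank at least three passes to involution centralizers in groups without subgroups of index 2. -/
theorem rank_three_centralizer (hno : ∀ H : Subgroup G, H.index ≠ 2)
    (hrank : ∃ E : Subgroup G, Nat.card E = 8 ∧ ∀ e ∈ E, e ^ 2 = 1) (x : G) (hx : orderOf x = 2) :
    ∃ E : Subgroup G, E ≤ Subgroup.centralizer ({x} : Set G) ∧ Nat.card E = 8 ∧ ∀ e ∈ E, e ^ 2 = 1 := by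
  classical
  have : Fact (Nat.Prime 2) := ⟨Nat.prime_two⟩
  obtain ⟨E, hE, hEexp⟩ := hrank
  obtain ⟨S, hES⟩ := (IsPGroup.of_card (p := 2) (G := E) (n := 3) (by rw [hE]; norm_num)).exists_le_sylow
  obtain ⟨U₀, hU₀n, hU₀, hU₀exp⟩ := exists_normal_four S.2 (E.subgroupOf (S : Subgroup G))
    (by rw [Nat.card_congr (Subgroup.subgroupOfEquivOfLe hES).toEquiv, hE])
    (fun e he => Subtype.ext (hEexp _ he))
  set U : Subgroup G := U₀.map (S : Subgroup G).subtype with hUdef
  have hUS : U ≤ (S : Subgroup G) := Subgroup.map_subtype_le _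
  have hU : Nat.card U = 4 := by
    rw [hUdef, Subgroup.card_map_of_injective (S : Subgroup G).subtype_injective, hU₀]
  have hUexp : ∀ u ∈ U, u ^ 2 = 1 := by
    rintro _ ⟨u, hu, rfl⟩
    exact congrArg Subtype.val (hU₀exp u hu)
  -- the centralizer of U in S
  set Q : Subgroup G := (S : Subgroup G) ⊓ Subgroup.centralizer (U : Set G) with hQdef
  have hQS : Q ≤ (S : Subgroup G) := inf_le_left
  have hmemQ : ∀ g : G, g ∈ Q ↔ g ∈ (S : Subgroup G) ∧ ∀ u ∈ U, Commute u g := by
    intro g
    rw [hQdef, Subgroup.mem_inf, Subgroup.mem_centralizer_iff]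
    exact Iff.rfl
  have hUQ : U ≤ Q := by
    intro u hu
    rw [hmemQ]
    refine ⟨hUS hu, fun v hv => ?_⟩
    have hinv : ∀ w ∈ U, w⁻¹ = w := fun w hw =>
      inv_eq_of_mul_eq_one_right (by rw [← pow_two]; exact hUexp w hw)
    show v * u = u * v
    conv_rhs => rw [← hinv u hu, ← hinv v hv, ← mul_inv_rev]
    rw [hinv _ (mul_mem hv hu)]
  have hQidx : Q.relIndex (S : Subgroup G) ≤ 2 := by
    -- one involution of U is central in S
    have hne : U₀ ≠ ⊥ := fun h => by rw [h, Subgroup.card_bot] at hU₀; omega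
    obtain ⟨z, hzU, hzc, hzo⟩ := PGroups.exists_mem_center_orderOf_eq S.2 U₀ hne
    have hz1 : z ≠ 1 := ne_one_of_orderOf_two hzo
    obtain ⟨u, huU, huz⟩ : ∃ u ∈ U₀, u ∉ Subgroup.zpowers z := by
      by_contra hc
      push Not at hc
      have := Nat.le_of_dvd Nat.card_pos (Subgroup.card_dvd_of_le (H := U₀) (K := Subgroup.zpowers z) hc)
      rw [hU₀, Nat.card_zpowers, hzo] at this
      omega
    have hu1 : u ≠ 1 := fun h => huz (h ▸ one_mem _)
    have huzne : u ≠ z := fun h => huz (h ▸ Subgroup.mem_zpowers z)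
    -- the elements of U₀
    have hUelts : ∀ v ∈ U₀, v = 1 ∨ v = z ∨ v = u ∨ v = z * u := by
      intro v hv
      by_contra hc
      push Not at hc
      have : Fintype U₀ := Fintype.ofFinite _
      let T : Finset U₀ := {1, ⟨z, hzU⟩, ⟨u, huU⟩, ⟨z * u, mul_mem hzU huU⟩, ⟨v, hv⟩}
      have hzu1 : z * u ≠ 1 := fun h => huzne (by
        have : z = u⁻¹ := eq_inv_of_mul_eq_one_left h
        rw [this, inv_eq_of_mul_eq_one_right (by rw [← pow_two]; exact hU₀exp u huU)])
      have hT : T.card = 5 := by
        simp only [T]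
        repeat' rw [Finset.card_insert_of_notMem]
        · simp
        all_goals simp [Subtype.ext_iff, hz1, hu1, huzne, huzne.symm, hzu1, hzu1.symm, hz1.symm,
          hu1.symm, hc.1.symm, hc.2.1.symm, hc.2.2.1.symm, hc.2.2.2.symm]
      have := Finset.card_le_univ T
      rw [hT, ← Nat.card_eq_fintype_card, hU₀] at this
      omega
    -- Q is the stabilizer of u
    have hiff : ∀ g : (S : Subgroup G), (g : G) ∈ Q ↔ g * u * g⁻¹ = u := by
      intro g
      rw [hmemQ, mul_inv_eq_iff_eq_mul]
      constructor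
      · intro h
        exact Subtype.ext (h.2 _ ⟨u, huU, rfl⟩).eq.symm
      · intro h
        refine ⟨g.2, ?_⟩
        rintro _ ⟨v, hv, rfl⟩
        have hcz : Commute z g := (Subgroup.mem_center_iff.1 hzc g).symm
        have hcu : Commute u g := h.symm
        have hcv : Commute v g := by
          rcases hUelts v hv with rfl | rfl | rfl | rfl
          · exact Commute.one_left g
          · exact hcz
          · exact hcu
          · exact hcz.mul_left hcu
        exact hcv.map (S : Subgroup G).subtype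
    have hor : ∀ g : (S : Subgroup G), g * u * g⁻¹ = u ∨ g * u * g⁻¹ = z * u := by
      intro g
      rcases hUelts _ (hU₀n.conj_mem u huU g) with h | h | h | h
      · exact absurd (by simpa using h) hu1
      · exfalso
        apply huzne
        have : u = g⁻¹ * z * g := by rw [← h]; group
        rw [this, mul_assoc, ← Subgroup.mem_center_iff.1 hzc g, inv_mul_cancel_left]
      · exact Or.inl h
      · exact Or.inr h
    have hinj : Nat.card ((S : Subgroup G) ⧸ Q.subgroupOf (S : Subgroup G)) ≤ 2 := by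
      let F : (S : Subgroup G) ⧸ Q.subgroupOf (S : Subgroup G) → ({u, z * u} : Finset (S : Subgroup G)) :=
        fun q => ⟨q.out * u * q.out⁻¹, by rcases hor q.out with h | h <;> simp [h]⟩
      have hF : Function.Injective F := by
        intro p q h
        have h' : p.out * u * p.out⁻¹ = q.out * u * q.out⁻¹ := congrArg Subtype.val h
        rw [← p.out_eq, ← q.out_eq]
        refine QuotientGroup.eq.2 ?_
        rw [Subgroup.mem_subgroupOf, hiff]
        calc p.out⁻¹ * q.out * u * (p.out⁻¹ * q.out)⁻¹ = p.out⁻¹ * (q.out * u * q.out⁻¹) * p.out := by group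
          _ = u := by rw [← h']; group
      refine (Nat.card_le_card_of_injective F hF).trans ?_
      rw [Nat.card_eq_fintype_card, Fintype.card_coe]
      exact Finset.card_le_two
    exact hinj
  -- move x into Q
  obtain ⟨T, hxT⟩ := (IsPGroup.of_card (p := 2) (G := Subgroup.zpowers x) (n := 1) (by
    rw [Nat.card_zpowers, hx, pow_one])).exists_le_sylow
  obtain ⟨a, ha⟩ := MulAction.exists_smul_eq G T S
  have hyS : a * x * a⁻¹ ∈ (S : Subgroup G) := by
    rw [← ha, Sylow.coe_subgroup_smul]
    exact ⟨x, hxT (Subgroup.mem_zpowers x), rfl⟩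
  have hconj : ∃ g : G, g * x * g⁻¹ ∈ Q := by
    by_cases hQ : a * x * a⁻¹ ∈ Q
    · exact ⟨a, hQ⟩
    have hQ2 : Q.relIndex (S : Subgroup G) = 2 := by
      have hne1 : Q.relIndex (S : Subgroup G) ≠ 1 := fun h => hQ (Subgroup.relIndex_eq_one.1 h hyS)
      have hne0 : Q.relIndex (S : Subgroup G) ≠ 0 := Subgroup.index_ne_zero_of_finite
      omega
    rcases H25.thompson_transfer S Q hQS hQ2 (a * x * a⁻¹) (by rw [orderOf_conj_eq, hx]) hyS hQ with
      ⟨M, -, hM, -⟩ | ⟨g, hg⟩
    · exact absurd hM (hno M)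
    · exact ⟨g * a, by simpa [mul_assoc] using hg⟩
  obtain ⟨g, hgQ⟩ := hconj
  set y := g * x * g⁻¹ with hy
  have hy2 : y ^ 2 = 1 := by
    rw [hy, conj_pow, pow_two, mul_self_of_orderOf_two hx, mul_one, mul_inv_cancel]
  obtain ⟨hyS', hyU⟩ := (hmemQ y).1 hgQ
  obtain ⟨E', hE', hE'exp, hE'c⟩ : ∃ E' : Subgroup G, Nat.card E' = 8 ∧ (∀ e ∈ E', e ^ 2 = 1) ∧
      ∀ e ∈ E', Commute y e := by
    by_cases hyU' : y ∈ U
    · obtain ⟨f, hfE, hfQ, hfU⟩ : ∃ f, f ∈ E ∧ f ∈ Q ∧ f ∉ U := by
        by_contra hc
        push Not at hc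
        have hFU : E ⊓ Q ≤ U := fun f hf => hc f hf.1 hf.2
        have hFidx : (Q.subgroupOf E).index ≤ 2 :=
          (Subgroup.relIndex_le_of_le_right hES (by
            exact Subgroup.index_ne_zero_of_finite)).trans hQidx
        have hcard := (Q.subgroupOf E).card_mul_index
        rw [hE] at hcard
        have hFcard : Nat.card (Q.subgroupOf E) = Nat.card (E ⊓ Q : Subgroup G) := by
          rw [inf_comm, ← Subgroup.subgroupOf_map_subtype Q E]
          exact (Subgroup.card_map_of_injective E.subtype_injective).symm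
        have hle := Nat.le_of_dvd Nat.card_pos (Subgroup.card_dvd_of_le hFU)
        rw [← hFcard, hU] at hle
        have hpos : 0 < (Q.subgroupOf E).index := Nat.pos_of_ne_zero Subgroup.index_ne_zero_of_finite
        have hidx2 : (Q.subgroupOf E).index = 2 := by
          rcases Nat.lt_or_ge (Q.subgroupOf E).index 2 with h | h
          · have : (Q.subgroupOf E).index = 1 := by omega
            rw [this] at hcard; omega
          · omega
        rw [hidx2] at hcard
        have hEQ : E ⊓ Q = U := Subgroup.eq_of_le_of_card_ge hFU (by rw [hU, ← hFcard]; omega)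
        have hEle : E ≤ Q := by
          intro e he
          rw [hmemQ]
          refine ⟨hES he, fun u hu => ?_⟩
          have huE : u ∈ E := (hEQ ▸ hu : u ∈ E ⊓ Q).1
          have hinv : ∀ w ∈ E, w⁻¹ = w := fun w hw =>
            inv_eq_of_mul_eq_one_right (by rw [← pow_two]; exact hEexp w hw)
          show u * e = e * u
          conv_rhs => rw [← hinv e he, ← hinv u huE, ← mul_inv_rev]
          rw [hinv _ (mul_mem huE he)]
        rw [inf_eq_left.2 hEle] at hEQ
        rw [hEQ, hU] at hE
        omega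
      obtain ⟨E', h1, h2, h3⟩ := exists_elementary_eight U hU hUexp (hEexp f hfE) hfU ((hmemQ f).1 hfQ).2
      exact ⟨E', h1, h2, h3 y (((hmemQ f).1 hfQ).2 y hyU') fun u hu => (hyU u hu).symm⟩
    · obtain ⟨E', h1, h2, h3⟩ := exists_elementary_eight U hU hUexp hy2 hyU' hyU
      exact ⟨E', h1, h2, h3 y (Commute.refl y) fun u hu => (hyU u hu).symm⟩
  refine ⟨E'.map (MulAut.conj g⁻¹).toMonoidHom, ?_, ?_, ?_⟩
  · rintro _ ⟨e, he, rfl⟩
    rw [Subgroup.mem_centralizer_singleton_iff]
    have h1 := (hE'c e he).map (MulAut.conj g⁻¹)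
    have h2 : MulAut.conj g⁻¹ y = x := by
      rw [hy, MulAut.conj_apply]; group
    rw [h2] at h1
    exact h1.eq.symm
  · rw [Subgroup.card_map_of_injective (MulEquiv.injective _), hE']
  · rintro _ ⟨e, he, rfl⟩
    rw [← map_pow, hE'exp e he, map_one]

end Cfsg.Agent.H26
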