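import Cfsg.Agent.H26.Invol
import Mathlib.Tactic

/-!
Brauer-Fowler counting of pairs of involutions.
-/

set_option autoImplicit false

namespace Cfsg.Agent.H26

variable {G : Type*} [Group G]

/-- The number of ordered pairs of involutions with product `x`. -/
noncomputable def invPairs (x : G) : ℕ :=
  Nat.card {p : G × G // orderOf p.1 = 2 ∧ orderOf p.2 = 2 ∧ p.1 * p.2 = x}

/-- The number of involutions. -/
noncomputable def invCount (G : Type*) [Group G] : ℕ := Nat.card {t : G // orderOf t = 2}

theorem sum_invPairs [Fintype G] : ∑ x : G, invPairs x = invCount G ^ 2 := by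
  classical
  rw [pow_two, invCount, ← Nat.card_prod]
  simp only [invPairs]
  rw [← Nat.card_sigma]
  exact Nat.card_congr
    { toFun := fun p => (⟨p.2.1.1, p.2.2.1⟩, ⟨p.2.1.2, p.2.2.2.1⟩)
      invFun := fun q => ⟨q.1.1 * q.2.1, (q.1.1, q.2.1), q.1.2, q.2.2, rfl⟩
      left_inv := by rintro ⟨x, ⟨⟨u, v⟩, hu, hv, h⟩⟩; dsimp at h; subst h; rfl
      right_inv := fun q => rfl }

theorem invPairs_one : invPairs (1 : G) = invCount G := by
  refine Nat.card_congr
    { toFun := fun p => ⟨p.1.1, p.2.1⟩
      invFun := fun t => ⟨(t.1, t.1), t.2, t.2, mul_self_of_orderOf_two t.2⟩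
      left_inv := ?_
      right_inv := fun t => rfl }
  rintro ⟨⟨u, v⟩, hu, hv, h⟩
  dsimp at hu h ⊢
  have : u = v := mul_left_cancel ((mul_self_of_orderOf_two hu).trans h.symm)
  subst this; rfl

theorem invCount_pos [Finite G] (h : Even (Nat.card G)) : 0 < invCount G := by
  have : Fact (Nat.Prime 2) := ⟨Nat.prime_two⟩
  obtain ⟨t, ht⟩ := exists_prime_orderOf_dvd_card' 2 (even_iff_two_dvd.1 h)
  have : Nonempty {t : G // orderOf t = 2} := ⟨⟨t, ht⟩⟩
  exact Nat.card_pos

theorem fst_inverts {x u v : G} (hu : orderOf u = 2) (hv : orderOf v = 2) (h : u * v = x) :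
    u * x * u⁻¹ = x⁻¹ := by
  subst h
  rw [mul_inv_rev, inv_eq_self_of_orderOf_two hu, inv_eq_self_of_orderOf_two hv, ← mul_assoc u u,
    mul_self_of_orderOf_two hu, one_mul]

/-- An involution is a product of two involutions in at most `|C(x)| - 2` ways. -/
theorem invPairs_involution_le [Finite G] {x : G} (hx : orderOf x = 2) :
    invPairs x + 2 ≤ Nat.card (Subgroup.centralizer ({x} : Set G)) := by
  classical
  set C := Subgroup.centralizer ({x} : Set G) with hC
  have hxC : x ∈ C := Subgroup.mem_centralizer_singleton_iff.2 rfl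
  let i : {p : G × G // orderOf p.1 = 2 ∧ orderOf p.2 = 2 ∧ p.1 * p.2 = x} → C := fun p =>
    ⟨p.1.1, Subgroup.mem_centralizer_singleton_iff.2 (by
      have h := fst_inverts p.2.1 p.2.2.1 p.2.2.2
      rw [inv_eq_self_of_orderOf_two hx] at h
      calc p.1.1 * x = p.1.1 * x * p.1.1⁻¹ * p.1.1 := by group
        _ = x * p.1.1 := by rw [h])⟩
  have hi : Function.Injective i := by
    rintro ⟨⟨u, v⟩, hu, hv, h⟩ ⟨⟨u', v'⟩, hu', hv', h'⟩ he
    have he' : u = u' := congrArg (fun c : C => (c : G)) he
    subst he'
    dsimp at h h'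
    have : v = v' := mul_left_cancel (h.trans h'.symm)
    subst this; rfl
  have : Fintype C := Fintype.ofFinite _
  have : Fintype {p : G × G // orderOf p.1 = 2 ∧ orderOf p.2 = 2 ∧ p.1 * p.2 = x} :=
    Fintype.ofFinite _
  have hsub : Finset.univ.image i ⊆
      ((Finset.univ : Finset C).erase (1 : C)).erase ⟨x, hxC⟩ := by
    intro c hc
    obtain ⟨⟨⟨u, v⟩, hu, hv, huv⟩, -, rfl⟩ := Finset.mem_image.1 hc
    refine Finset.mem_erase.2 ⟨fun h => ?_, Finset.mem_erase.2 ⟨fun h => ?_, Finset.mem_univ _⟩⟩
    · have h' : u = x := congrArg Subtype.val h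
      dsimp at huv
      exact ne_one_of_orderOf_two hv (mul_eq_left.1 (huv.trans h'.symm))
    · have h' : u = 1 := congrArg Subtype.val h
      exact ne_one_of_orderOf_two hu h'
  have hne : (⟨x, hxC⟩ : C) ≠ 1 := fun h => ne_one_of_orderOf_two hx (congrArg Subtype.val h)
  have h1 := Finset.card_le_card hsub
  rw [Finset.card_image_of_injective _ hi, Finset.card_erase_of_mem
    (Finset.mem_erase.2 ⟨hne, Finset.mem_univ _⟩),
    Finset.card_erase_of_mem (Finset.mem_univ _), Finset.card_univ, Finset.card_univ] at h1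
  have h2 : 1 < Fintype.card C := Fintype.one_lt_card_iff.2 ⟨_, _, hne⟩
  rw [invPairs, Nat.card_eq_fintype_card, Nat.card_eq_fintype_card]
  omega

/-- The elements which centralise or invert `x`. -/
def starCentralizer (x : G) : Subgroup G where
  carrier := {g | g * x * g⁻¹ = x ∨ g * x * g⁻¹ = x⁻¹}
  one_mem' := Or.inl (by simp)
  mul_mem' := by
    intro a b ha hb
    have key : a * b * x * (a * b)⁻¹ = a * (b * x * b⁻¹) * a⁻¹ := by group
    rcases hb with hb | hb
    · exact ha.imp (fun h => by rw [key, hb, h]) (fun h => by rw [key, hb, h])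
    · have hi : a * x⁻¹ * a⁻¹ = (a * x * a⁻¹)⁻¹ := by group
      rcases ha with ha | ha
      · exact Or.inr (by rw [key, hb, hi, ha])
      · exact Or.inl (by rw [key, hb, hi, ha, inv_inv])
  inv_mem' := by
    intro a ha
    rcases ha with ha | ha
    · refine Or.inl ?_
      calc a⁻¹ * x * a⁻¹⁻¹ = a⁻¹ * (a * x * a⁻¹) * a⁻¹⁻¹ := by rw [ha]
        _ = x := by group
    · refine Or.inr ?_
      calc a⁻¹ * x * a⁻¹⁻¹ = a⁻¹ * (a * x * a⁻¹)⁻¹ * a⁻¹⁻¹ := by rw [ha, inv_inv x]
        _ = x⁻¹ := by group

/-- An element which is not an involution or trivial is a product of two involutions in at most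
`|C(x)|` ways, and when it is one at all then `C(x)` has index two in the subgroup of elements
centralising or inverting it. -/
theorem invPairs_other_le [Finite G] {x : G} (hx : x * x ≠ 1) :
    invPairs x ≤ Nat.card (Subgroup.centralizer ({x} : Set G)) ∧
      (invPairs x ≠ 0 → Nat.card (starCentralizer x) =
        2 * Nat.card (Subgroup.centralizer ({x} : Set G))) := by
  classical
  set C := Subgroup.centralizer ({x} : Set G) with hC
  rcases Nat.eq_zero_or_pos (invPairs x) with h0 | h0
  · exact ⟨by rw [h0]; exact Nat.zero_le _, fun h => absurd h0 h⟩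
  obtain ⟨⟨⟨⟨u, v⟩, hu, hv, huv⟩⟩, -⟩ := Nat.card_pos_iff.1 h0
  dsimp at hu hv huv
  have hux := fst_inverts hu hv huv
  have hmem : ∀ g : G, g ∈ C ↔ g * x * g⁻¹ = x := fun g => by
    rw [hC, Subgroup.mem_centralizer_singleton_iff, mul_inv_eq_iff_eq_mul]
  have hinv : ∀ g : G, g * x * g⁻¹ = x⁻¹ → u⁻¹ * g ∈ C := by
    intro g hg
    rw [hmem]
    calc u⁻¹ * g * x * (u⁻¹ * g)⁻¹ = u⁻¹ * (g * x * g⁻¹) * u := by group
      _ = u⁻¹ * (u * x * u⁻¹) * u := by rw [hg, hux]
      _ = x := by group
  constructor
  · let i : {p : G × G // orderOf p.1 = 2 ∧ orderOf p.2 = 2 ∧ p.1 * p.2 = x} → C := fun p =>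
      ⟨u⁻¹ * p.1.1, hinv _ (fst_inverts p.2.1 p.2.2.1 p.2.2.2)⟩
    have hi : Function.Injective i := by
      rintro ⟨⟨a, b⟩, ha, hb, h⟩ ⟨⟨a', b'⟩, ha', hb', h'⟩ he
      have he' : a = a' := mul_left_cancel (congrArg Subtype.val he : u⁻¹ * a = u⁻¹ * a')
      subst he'
      dsimp at h h'
      have : b = b' := mul_left_cancel (h.trans h'.symm)
      subst this; rfl
    exact Nat.card_le_card_of_injective i hi
  · intro _
    have hle : C ≤ starCentralizer x := fun g hg => Or.inl ((hmem g).1 hg)
    have hu' : u ∈ starCentralizer x := Or.inr hux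
    have huC : u ∉ C := fun h => hx (by
      have h2 : x⁻¹ = x := hux.symm.trans ((hmem u).1 h)
      nth_rewrite 1 [← h2]; exact inv_mul_cancel x)
    have hidx : (C.subgroupOf (starCentralizer x)).index = 2 := by
      rw [Subgroup.index_eq_two_iff]
      refine ⟨⟨u, hu'⟩, fun b => ?_⟩
      simp only [Subgroup.mem_subgroupOf, Subgroup.coe_mul]
      rcases b.2 with hb | hb
      · refine Or.inr ⟨(hmem _).2 hb, fun h => huC ?_⟩
        have := mul_mem (inv_mem ((hmem _).2 hb)) h
        rwa [← mul_assoc, inv_mul_cancel, one_mul] at this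
      · refine Or.inl ⟨?_, fun h => hx ?_⟩
        · rw [hmem]
          calc (b : G) * u * x * ((b : G) * u)⁻¹ = ((b : G) * (u * x * u⁻¹)⁻¹ * (b : G)⁻¹)⁻¹ := by group
            _ = x := by rw [hux, inv_inv, hb, inv_inv]
        · have h2 : x⁻¹ = x := hb.symm.trans ((hmem _).1 h)
          nth_rewrite 1 [← h2]; exact inv_mul_cancel x
    have := (C.subgroupOf (starCentralizer x)).card_mul_index
    rw [hidx, Nat.card_congr (Subgroup.subgroupOfEquivOfLe hle).toEquiv] at this
    omega

theorem not_isConj_inv_of_central {x : G} (hx : x * x ≠ 1) (hc : ∀ g : G, g * x = x * g) :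
    invPairs x = 0 := by
  rcases isEmpty_or_nonempty
    {p : G × G // orderOf p.1 = 2 ∧ orderOf p.2 = 2 ∧ p.1 * p.2 = x} with h | ⟨⟨⟨u, v⟩, hu, hv, huv⟩⟩
  · exact Nat.card_of_isEmpty
  · exfalso
    have := fst_inverts hu hv huv
    dsimp at this
    rw [hc u, mul_inv_cancel_right] at this
    apply hx
    nth_rewrite 2 [this]
    exact mul_inv_cancel x

/-- Without central involutions every element is a product of two involutions in few ways:
the key inequality. `c` bounds the orders of proper subgroups. -/
theorem brauer_fowler_bound [Finite G] (hZ : ∀ x : G, orderOf x = 2 → x ∉ Subgroup.center G)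
    (heven : Even (Nat.card G)) {c : ℕ} (hc : ∀ H : Subgroup G, H ≠ ⊤ → Nat.card H ≤ c) :
    Nat.card G ^ 2 < c ^ 3 * Nat.card G := by
  classical
  have : Fintype G := Fintype.ofFinite G
  set n := invCount G with hn
  have hnpos : 0 < n := invCount_pos heven
  have hsum := sum_invPairs (G := G)
  have hbd : ∀ x : G, x ≠ 1 → invPairs x ≤ c := by
    intro x hx1
    by_cases htop : Subgroup.centralizer ({x} : Set G) = ⊤
    · have hcent : ∀ g : G, g * x = x * g := fun g =>
        Subgroup.mem_centralizer_singleton_iff.1 (by rw [htop]; exact Subgroup.mem_top g)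
      by_cases h2 : x * x = 1
      · exact absurd (Subgroup.mem_center_iff.2 hcent) (hZ x (orderOf_two_of_mul_self h2 hx1))
      · rw [not_isConj_inv_of_central h2 hcent]; exact Nat.zero_le _
    · have hc' := hc _ htop
      by_cases h2 : x * x = 1
      · have := invPairs_involution_le (orderOf_two_of_mul_self h2 hx1); omega
      · have := (invPairs_other_le h2).1; omega
  -- one class already gives many involutions
  have hnc : Nat.card G ≤ n * c := by
    have : Fact (Nat.Prime 2) := ⟨Nat.prime_two⟩
    obtain ⟨t, ht⟩ := exists_prime_orderOf_dvd_card' 2 (even_iff_two_dvd.1 heven)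
    have htop : Subgroup.centralizer ({t} : Set G) ≠ ⊤ := fun h => hZ t ht
      (Subgroup.mem_center_iff.2 fun g =>
        Subgroup.mem_centralizer_singleton_iff.1 (by rw [h]; exact Subgroup.mem_top g))
    rw [← card_conj_mul_card_centralizer t]
    refine Nat.mul_le_mul ?_ (hc _ htop)
    exact Nat.card_le_card_of_injective
      (fun g : {g : G // IsConj t g} => (⟨g.1, (isConj_orderOf g.2).symm.trans ht⟩ : {t : G // orderOf t = 2}))
      (fun a b h => Subtype.ext (by simpa using congrArg Subtype.val h))
  have hle : n ^ 2 ≤ n + (Nat.card G - 1) * c := by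
    rw [← hsum, ← Finset.add_sum_erase _ _ (Finset.mem_univ (1 : G)), invPairs_one]
    refine Nat.add_le_add_left ?_ n
    refine (Finset.sum_le_card_nsmul _ _ c fun x hx => hbd x (Finset.ne_of_mem_erase hx)).trans ?_
    rw [Finset.card_erase_of_mem (Finset.mem_univ _), Finset.card_univ, ← Nat.card_eq_fintype_card,
      smul_eq_mul]
  -- one involution class pair gains strictness
  have hstrict : n ^ 2 + n ≤ (Nat.card G) * c := by
    obtain ⟨m, hm⟩ : ∃ m, Nat.card G = m + 1 := ⟨Nat.card G - 1, by have := Nat.card_pos (α := G); omega⟩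
    rw [hm, Nat.add_sub_cancel] at hle
    have hc2 : 2 ≤ c := by
      have : Fact (Nat.Prime 2) := ⟨Nat.prime_two⟩
      obtain ⟨t, ht⟩ := exists_prime_orderOf_dvd_card' 2 (even_iff_two_dvd.1 heven)
      have h1 : Nat.card (Subgroup.zpowers t) = 2 := by rw [Nat.card_zpowers, ht]
      refine h1 ▸ hc _ fun h => hZ t ht (Subgroup.mem_center_iff.2 fun g => ?_)
      obtain ⟨k, rfl⟩ := Subgroup.mem_zpowers_iff.1 (h ▸ Subgroup.mem_top g : g ∈ Subgroup.zpowers t)
      exact (Commute.zpow_self t k).eq
    by_cases hbig : 2 * n ≤ c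
    · calc n ^ 2 + n ≤ (n + 1) * c := by nlinarith
        _ ≤ (m + 1) * c := by
          refine Nat.mul_le_mul_right c (Nat.add_le_add_right ?_ 1)
          rw [hn, invCount, Nat.card_eq_fintype_card]
          have : Fintype.card {t : G // orderOf t = 2} < Fintype.card G :=
            Fintype.card_subtype_lt (x := (1 : G)) (by simp)
          rw [← Nat.card_eq_fintype_card (α := G), hm] at this
          omega
        _ = _ := by rw [hm]
    · rw [hm]
      -- each involution is counted with at most `c - 2`
      have h2 : n ^ 2 + 2 * n ≤ n + m * c := by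
        have hI : ∑ x ∈ (Finset.univ.erase (1 : G)), (invPairs x + if orderOf x = 2 then 2 else 0) ≤ m * c := by
          refine (Finset.sum_le_card_nsmul _ _ c fun x hx => ?_).trans ?_
          · split_ifs with h
            · have htop : Subgroup.centralizer ({x} : Set G) ≠ ⊤ := fun h' => hZ x h
                (Subgroup.mem_center_iff.2 fun g =>
                  Subgroup.mem_centralizer_singleton_iff.1 (by rw [h']; exact Subgroup.mem_top g))
              exact (invPairs_involution_le h).trans (hc _ htop)
            · simpa using hbd x (Finset.ne_of_mem_erase hx)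
          · rw [Finset.card_erase_of_mem (Finset.mem_univ _), Finset.card_univ,
              ← Nat.card_eq_fintype_card, hm, smul_eq_mul, Nat.add_sub_cancel]
        have hcnt : ∑ x ∈ Finset.univ.erase (1 : G), (if orderOf x = 2 then 2 else 0) = 2 * n := by
          rw [Finset.sum_erase _ (by simp), Finset.sum_ite, Finset.sum_const_zero, Finset.sum_const,
            add_zero, smul_eq_mul, hn, invCount, Nat.card_eq_fintype_card, Fintype.card_subtype]
          ring
        rw [Finset.sum_add_distrib, hcnt] at hI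
        rw [← hsum, ← Finset.add_sum_erase _ _ (Finset.mem_univ (1 : G)), invPairs_one]
        omega
      nlinarith
  calc Nat.card G ^ 2 ≤ (n * c) ^ 2 := Nat.pow_le_pow_left hnc 2
    _ = n ^ 2 * c ^ 2 := by ring
    _ < (n ^ 2 + n) * c ^ 2 := by
        have hcpos : 0 < c := by
          rcases Nat.eq_zero_or_pos c with h | h
          · exfalso; rw [h, Nat.mul_zero] at hnc; exact absurd hnc (not_le.2 Nat.card_pos)
          · exact h
        gcongr; omega
    _ ≤ (Nat.card G * c) * c ^ 2 := Nat.mul_le_mul_right _ hstrict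
    _ = c ^ 3 * Nat.card G := by ring

/-- The Brauer-Fowler index inequality: some proper subgroup is large. -/
theorem brauer_fowler_index [Finite G] (heven : Even (Nat.card G))
    (hZ : ∀ x : G, orderOf x = 2 → x ∉ Subgroup.center G)
    (h2 : ∀ H : Subgroup G, H.index ≠ 2) :
    ∃ H : Subgroup G, H ≠ ⊤ ∧ 2 * H.index * invCount G ^ 2 < Nat.card G * (Nat.card G + invCount G) := by
  classical
  have : Fintype G := Fintype.ofFinite G
  by_contra hcon
  push Not at hcon
  set n := invCount G with hn
  set N := Nat.card G with hN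
  have hnpos : 0 < n := invCount_pos heven
  have hH : ∀ H : Subgroup G, H ≠ ⊤ → Nat.card H * (N + n) ≤ 2 * n ^ 2 := by
    intro H hne
    have h := hcon H hne
    have h' : H.index * (Nat.card H * (N + n)) ≤ H.index * (2 * n ^ 2) := by
      calc H.index * (Nat.card H * (N + n)) = (Nat.card H * H.index) * (N + n) := by ring
        _ = N * (N + n) := by rw [H.card_mul_index]
        _ ≤ 2 * H.index * n ^ 2 := h
        _ = H.index * (2 * n ^ 2) := by ring
    exact Nat.le_of_mul_le_mul_left h' (Nat.pos_of_ne_zero H.index_ne_zero_of_finite)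
  have hpt : ∀ x ∈ (Finset.univ : Finset G).erase 1,
      2 * (N + n) * invPairs x + (if orderOf x = 2 then 4 * (N + n) else 0) ≤
        2 * n ^ 2 + (if orderOf x = 2 then 2 * n ^ 2 else 0) := by
    intro x hx
    have hx1 := Finset.ne_of_mem_erase hx
    split_ifs with ho
    · have htop : Subgroup.centralizer ({x} : Set G) ≠ ⊤ := fun h' => hZ x ho
        (Subgroup.mem_center_iff.2 fun g =>
          Subgroup.mem_centralizer_singleton_iff.1 (by rw [h']; exact Subgroup.mem_top g))
      have := hH _ htop
      have := Nat.mul_le_mul_right (N + n) (invPairs_involution_le ho)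
      nlinarith
    · have hxx : x * x ≠ 1 := fun h => ho (orderOf_two_of_mul_self h hx1)
      rcases Nat.eq_zero_or_pos (invPairs x) with h0 | h0
      · simp [h0]
      obtain ⟨hle, hstar⟩ := invPairs_other_le hxx
      have hs := hstar (by omega)
      have htop : starCentralizer x ≠ ⊤ := by
        intro h
        apply h2 (Subgroup.centralizer ({x} : Set G))
        have := (Subgroup.centralizer ({x} : Set G)).card_mul_index
        rw [h, Subgroup.card_top] at hs
        have hpos : 0 < Nat.card (Subgroup.centralizer ({x} : Set G)) := Nat.card_pos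
        exact Nat.eq_of_mul_eq_mul_left hpos (by rw [this, hs]; ring)
      have hb := hH _ htop
      rw [hs] at hb
      have := Nat.mul_le_mul_right (N + n) hle
      nlinarith
  have h := Finset.sum_le_sum hpt
  rw [Finset.sum_add_distrib, Finset.sum_add_distrib, ← Finset.mul_sum] at h
  have hcnt : ∀ a : ℕ, ∑ x ∈ Finset.univ.erase (1 : G), (if orderOf x = 2 then a else 0) = n * a := by
    intro a
    rw [Finset.sum_erase _ (by simp), Finset.sum_ite, Finset.sum_const_zero, Finset.sum_const,
      add_zero, smul_eq_mul, hn, invCount, Nat.card_eq_fintype_card, Fintype.card_subtype]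
  rw [hcnt, hcnt, Finset.sum_const, Finset.card_erase_of_mem (Finset.mem_univ _), Finset.card_univ,
    ← Nat.card_eq_fintype_card, smul_eq_mul] at h
  have hs := sum_invPairs (G := G)
  rw [← Finset.add_sum_erase _ _ (Finset.mem_univ (1 : G)), invPairs_one] at hs
  obtain ⟨m, hm⟩ : ∃ m, N = m + 1 := ⟨N - 1, by have := Nat.card_pos (α := G); omega⟩
  rw [show Nat.card G - 1 = m by omega] at h
  rw [← hn] at hs
  rw [hm] at h
  generalize ∑ x ∈ Finset.univ.erase (1 : G), invPairs x = S at h hs
  nlinarith

end Cfsg.Agent.H26
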