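import Cfsg.Agent.CharBasic.Complete
import Mathlib.LinearAlgebra.Matrix.ToLin
import Mathlib.LinearAlgebra.Matrix.Trace

/-!
The Frobenius-Schur indicator through invariant bilinear forms, in matrix language.
-/

set_option autoImplicit false

namespace Cfsg.Agent.H26

open Module Matrix
open scoped ComplexConjugate

variable {G : Type*} [Group G] [Fintype G] {V : Type*} [AddCommGroup V] [Module ℂ V]
  [FiniteDimensional ℂ V] (ρ : Representation ℂ G V) [ρ.IsIrreducible]

/-- An invariant bilinear form given by a matrix. -/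
def IsInvForm {ι : Type*} [Fintype ι] (M : G → Matrix ι ι ℂ) (B : Matrix ι ι ℂ) : Prop :=
  ∀ t : G, (M t)ᵀ * B * M t = B

theorem frobeniusSchur_core {ι : Type*} [Fintype ι] [DecidableEq ι] (b : Basis ι ℂ V) :
    ((Nat.card G : ℂ)⁻¹ * ∑ s : G, ρ.character (s * s) = 0 ∧ ∃ s : G, (ρ.character s).im ≠ 0) ∨
    ((∀ s : G, (ρ.character s).im = 0) ∧
      ((Nat.card G : ℂ)⁻¹ * ∑ s : G, ρ.character (s * s) = 1 ∨
        (Nat.card G : ℂ)⁻¹ * ∑ s : G, ρ.character (s * s) = -1)) := by
  classical
  set M : G → Matrix ι ι ℂ := fun s => LinearMap.toMatrix b b (ρ s) with hM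
  have hmul : ∀ s t, M (s * t) = M s * M t := fun s t => by
    simp only [hM, map_mul, LinearMap.toMatrix_mul]
  have hone : M 1 = 1 := by simp only [hM, map_one, LinearMap.toMatrix_one]
  have hinv : ∀ t, M t⁻¹ * M t = 1 := fun t => by rw [← hmul, inv_mul_cancel, hone]
  have htr : ∀ s, ρ.character s = (M s).trace := fun s =>
    LinearMap.trace_eq_matrix_trace ℂ b (ρ s)
  have hGne : (Nat.card G : ℂ) ≠ 0 := Nat.cast_ne_zero.2 Nat.card_pos.ne'
  set n := Fintype.card ι with hn
  have hnfin : finrank ℂ V = n := finrank_eq_card_basis b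
  have hnpos : 0 < n := hnfin ▸ CharBasic.finrank_pos_of_isIrreducible ρ
  have : Nonempty ι := Fintype.card_pos_iff.1 hnpos
  -- Schur's lemma in matrix form
  have hschur : ∀ T : Matrix ι ι ℂ, (∀ s, T * M s = M s * T) → ∃ c : ℂ, T = c • (1 : Matrix ι ι ℂ) := by
    intro T hT
    obtain ⟨c, hc⟩ := CharBasic.schur_scalar ρ (Matrix.toLin b b T) (fun s => by
      apply (LinearMap.toMatrix b b).injective
      rw [LinearMap.toMatrix_mul, LinearMap.toMatrix_mul, LinearMap.toMatrix_toLin]
      exact hT s)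
    refine ⟨c, ?_⟩
    have := congrArg (LinearMap.toMatrix b b) hc
    rwa [LinearMap.toMatrix_toLin, map_smul, LinearMap.toMatrix_id] at this
  let F : Matrix ι ι ℂ → Matrix ι ι ℂ := fun X => ∑ s : G, (M s)ᵀ * X * M s
  have hF : ∀ X, IsInvForm M (F X) := by
    intro X t
    show (M t)ᵀ * (∑ s : G, (M s)ᵀ * X * M s) * M t = _
    rw [Finset.mul_sum, Finset.sum_mul]
    refine Fintype.sum_equiv (Equiv.mulRight t) _ _ fun s => ?_
    simp only [Equiv.coe_mulRight, hmul, transpose_mul, Matrix.mul_assoc]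
  have hFentry : ∀ i j c d, F (Matrix.single i j (1 : ℂ)) c d = ∑ s : G, M s i c * M s j d := by
    intro i j c d
    show (∑ s : G, (M s)ᵀ * Matrix.single i j (1 : ℂ) * M s) c d = _
    rw [Matrix.sum_apply]
    refine Finset.sum_congr rfl fun s _ => ?_
    simp [Matrix.mul_apply, Matrix.single_apply, Matrix.transpose_apply, Finset.sum_ite_eq,
      Finset.sum_ite_eq', ite_and]
  have hind : ∑ s : G, ρ.character (s * s) = ∑ i, ∑ j, F (Matrix.single i j 1) j i := by
    simp only [htr, hmul, hFentry, Matrix.trace, Matrix.diag, Matrix.mul_apply]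
    rw [Finset.sum_comm]
    refine Finset.sum_congr rfl fun i _ => ?_
    rw [Finset.sum_comm]
  have hsq : ∑ s : G, ρ.character s * ρ.character s = ∑ i, ∑ j, F (Matrix.single i j 1) i j := by
    simp only [htr, hFentry, Matrix.trace, Matrix.diag, Finset.sum_mul_sum]
    rw [Finset.sum_comm]
    refine Finset.sum_congr rfl fun i _ => ?_
    rw [Finset.sum_comm]
  by_cases hW : ∀ B, IsInvForm M B → B = 0
  · left
    have h0 : ∀ X, F X = 0 := fun X => hW _ (hF X)
    refine ⟨by simp [hind, h0], ?_⟩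
    by_contra hcon
    push Not at hcon
    have hnorm := CharBasic.classInner_irr_self (CharBasic.isIrrCharacter_character ρ)
    rw [CharBasic.classInner_def] at hnorm
    simp only [fun g => Complex.conj_eq_iff_im.2 (hcon g)] at hnorm
    rw [hsq] at hnorm
    simp [h0] at hnorm
  push Not at hW
  obtain ⟨B, hB, hB0⟩ := hW
  right
  -- B is invertible
  have hBunit : IsUnit B.det := by
    rw [isUnit_iff_ne_zero]
    intro hdet
    obtain ⟨v, hv, hBv⟩ := Matrix.exists_mulVec_eq_zero_iff.2 hdet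
    let W : Submodule ℂ V := LinearMap.ker (Matrix.toLin b b B)
    have hWinv : ∀ g : G, ∀ w ∈ W, ρ g w ∈ W := by
      intro g w hw
      rw [LinearMap.mem_ker] at hw ⊢
      apply b.repr.injective
      apply Finsupp.ext
      have h1 : ∀ u, ⇑(b.repr (Matrix.toLin b b B u)) = B *ᵥ ⇑(b.repr u) := fun u => by
        have := LinearMap.toMatrix_mulVec_repr b b (Matrix.toLin b b B) u
        rw [LinearMap.toMatrix_toLin] at this
        exact this.symm
      have h2 : ⇑(b.repr (ρ g w)) = M g *ᵥ ⇑(b.repr w) :=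
        (LinearMap.toMatrix_mulVec_repr b b (ρ g) w).symm
      have h3 : B *ᵥ ⇑(b.repr w) = 0 := by rw [← h1, hw, map_zero]; rfl
      have h4 : B * M g = (M g⁻¹)ᵀ * B := by
        calc B * M g = (M g⁻¹)ᵀ * ((M g)ᵀ * B * M g) := by
              rw [← Matrix.mul_assoc, ← Matrix.mul_assoc, ← transpose_mul, ← hmul,
                mul_inv_cancel, hone, transpose_one, Matrix.one_mul]
          _ = (M g⁻¹)ᵀ * B := by rw [hB g]
      intro i
      rw [map_zero, h1, h2, mulVec_mulVec, h4, ← mulVec_mulVec, h3, mulVec_zero]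
      rfl
    rcases IsSimpleOrder.eq_bot_or_eq_top (⟨W, fun g w hw => hWinv g w hw⟩ : Subrepresentation ρ)
      with h | h
    · replace h : W = ⊥ := congrArg Subrepresentation.toSubmodule h
      have hmem : b.equivFun.symm v ∈ W := by
        have hrepr : ⇑(b.repr (b.equivFun.symm v)) = v := b.equivFun.apply_symm_apply v
        rw [LinearMap.mem_ker]
        apply b.repr.injective
        rw [map_zero]
        apply Finsupp.ext
        intro i
        have h1 := LinearMap.toMatrix_mulVec_repr b b (Matrix.toLin b b B) (b.equivFun.symm v)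
        rw [LinearMap.toMatrix_toLin, hrepr, hBv] at h1
        exact (congrFun h1 i).symm
      rw [h, Submodule.mem_bot, LinearEquiv.map_eq_zero_iff] at hmem
      exact hv hmem
    · replace h : W = ⊤ := congrArg Subrepresentation.toSubmodule h
      apply hB0
      apply (Matrix.toLin b b).injective
      rw [map_zero]
      exact LinearMap.ker_eq_top.1 h
  have hBB : B⁻¹ * B = 1 := Matrix.nonsing_inv_mul _ hBunit
  have hBB' : B * B⁻¹ = 1 := Matrix.mul_nonsing_inv _ hBunit
  have hswap : ∀ s, B⁻¹ * (M s)ᵀ = M s⁻¹ * B⁻¹ := by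
    intro s
    calc B⁻¹ * (M s)ᵀ = B⁻¹ * (M s)ᵀ * (B * (M s * M s⁻¹) * B⁻¹) := by
          rw [← hmul, mul_inv_cancel, hone, Matrix.mul_one, hBB', Matrix.mul_one]
      _ = B⁻¹ * ((M s)ᵀ * B * M s) * (M s⁻¹ * B⁻¹) := by simp only [Matrix.mul_assoc]
      _ = M s⁻¹ * B⁻¹ := by rw [hB s, hBB, Matrix.one_mul]
  have hreal : ∀ s, (ρ.character s).im = 0 := by
    intro s
    apply Complex.conj_eq_iff_im.1
    rw [← CharBasic.character_inv, htr, htr]
    calc (M s⁻¹).trace = (M s⁻¹ * B⁻¹ * B).trace := by rw [Matrix.mul_assoc, hBB, Matrix.mul_one]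
      _ = (B⁻¹ * (M s)ᵀ * B).trace := by rw [hswap]
      _ = (M s)ᵀ.trace := by rw [Matrix.trace_mul_comm, ← Matrix.mul_assoc, hBB', Matrix.one_mul]
      _ = (M s).trace := Matrix.trace_transpose _
  refine ⟨hreal, ?_⟩
  have hscal : ∀ C, IsInvForm M C → ∃ c : ℂ, C = c • B := by
    intro C hC
    obtain ⟨c, hc⟩ := hschur (B⁻¹ * C) (fun s => by
      calc B⁻¹ * C * M s = B⁻¹ * ((M s⁻¹)ᵀ * ((M s)ᵀ * C * M s)) := by
            rw [← Matrix.mul_assoc (M s⁻¹)ᵀ, ← Matrix.mul_assoc (M s⁻¹)ᵀ, ← transpose_mul, ← hmul,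
              mul_inv_cancel, hone, transpose_one, Matrix.one_mul, Matrix.mul_assoc]
        _ = B⁻¹ * (M s⁻¹)ᵀ * C := by rw [hC s, Matrix.mul_assoc]
        _ = M s * (B⁻¹ * C) := by rw [hswap, inv_inv, Matrix.mul_assoc])
    refine ⟨c, ?_⟩
    calc C = B * (B⁻¹ * C) := by rw [← Matrix.mul_assoc, hBB', Matrix.one_mul]
      _ = c • B := by rw [hc, Matrix.mul_smul, Matrix.mul_one]
  obtain ⟨ε, hε⟩ := hscal Bᵀ (fun t => by
    have := congrArg transpose (hB t)
    simpa [transpose_mul, Matrix.mul_assoc] using this)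
  have hε2 : ε * ε = 1 := by
    have h := congrArg transpose hε
    rw [transpose_transpose, transpose_smul, hε, smul_smul] at h
    obtain ⟨i, j, hij⟩ : ∃ i j, B i j ≠ 0 := by
      by_contra hc
      push Not at hc
      exact hB0 (Matrix.ext hc)
    have h' := congrFun (congrFun h i) j
    simp only [Matrix.smul_apply, smul_eq_mul] at h'
    exact (mul_eq_right₀ hij).1 h'.symm
  have hcoef : ∀ i j, ∃ c : ℂ, F (Matrix.single i j 1) = c • B ∧
      c * (n : ℂ) = (Nat.card G : ℂ) * B⁻¹ j i := by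
    intro i j
    obtain ⟨c, hc⟩ := hscal _ (hF (Matrix.single i j 1))
    refine ⟨c, hc, ?_⟩
    have h1 : (B⁻¹ * F (Matrix.single i j 1)).trace = c * n := by
      rw [hc, Matrix.mul_smul, hBB, Matrix.trace_smul, Matrix.trace_one, smul_eq_mul]
    rw [← h1]
    show (B⁻¹ * ∑ s : G, (M s)ᵀ * Matrix.single i j (1 : ℂ) * M s).trace = _
    rw [Finset.mul_sum, Matrix.trace_sum]
    have h2 : ∀ s : G, (B⁻¹ * ((M s)ᵀ * Matrix.single i j (1 : ℂ) * M s)).trace = B⁻¹ j i := by
      intro s
      rw [← Matrix.mul_assoc, ← Matrix.mul_assoc, hswap, Matrix.mul_assoc (M s⁻¹),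
        Matrix.trace_mul_comm, ← Matrix.mul_assoc, ← hmul, mul_inv_cancel, hone, Matrix.one_mul,
        Matrix.trace_mul_single]
      simp
    simp [h2, Nat.card_eq_fintype_card]
  have hval : (Nat.card G : ℂ)⁻¹ * ∑ s : G, ρ.character (s * s) = ε := by
    have hn0 : (n : ℂ) ≠ 0 := Nat.cast_ne_zero.2 hnpos.ne'
    have hterm : ∀ i j, F (Matrix.single i j 1) j i * (n : ℂ) =
        (Nat.card G : ℂ) * ε * (B⁻¹ j i * B i j) := by
      intro i j
      obtain ⟨c, hc, hcn⟩ := hcoef i j
      have hji : B j i = ε * B i j := by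
        have := congrFun (congrFun hε i) j
        simpa using this
      rw [hc, Matrix.smul_apply, smul_eq_mul, hji,
        show c * (ε * B i j) * (n : ℂ) = c * (n : ℂ) * (ε * B i j) by ring, hcn]
      ring
    have htot : (∑ s : G, ρ.character (s * s)) * (n : ℂ) = (Nat.card G : ℂ) * ε * n := by
      rw [hind, Finset.sum_mul]
      simp only [Finset.sum_mul, hterm]
      simp only [← Finset.mul_sum]
      congr 1
      have h3 : (B * B⁻¹).trace = (n : ℂ) := by rw [hBB', Matrix.trace_one]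
      rw [← h3]
      simp only [Matrix.trace, Matrix.diag, Matrix.mul_apply]
      exact Finset.sum_congr rfl fun i _ => Finset.sum_congr rfl fun j _ => mul_comm _ _
    rw [mul_right_cancel₀ hn0 htot, inv_mul_cancel_left₀ hGne]
  rw [hval]
  exact mul_self_eq_one_iff.1 hε2

end Cfsg.Agent.H26
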