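import Cfsg.Agent.H35.Extend
import Cfsg.Agent.H81.Gallagher
import Cfsg.Agent.CharInduce.Induce
import Cfsg.Agent.BlockBasic.Basic
import Cfsg.Agent.CharBasic.Kernel

/-!
# Characters of a group with a normal Hall subgroup

An invariant irreducible character of a normal Hall subgroup extends, and the characters of
degree prime to the index are its extensions.
-/

set_option autoImplicit false

namespace Cfsg.Agent.H26.HallExtend

open scoped ComplexConjugate
open Cfsg.Agent.CharBasic Cfsg.Agent.CharInduce Cfsg.Agent.H35.Extend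

universe u

variable {G : Type u} [Group G] (K : Subgroup G) [K.Normal]

/-- An invariant irreducible character of a normal Hall subgroup extends to the whole group. -/
theorem exists_extension_hall [Finite G] (hcop : (Nat.card K).Coprime K.index)
    {θ : K → ℂ} (hθ : Cfsg.IsIrrCharacter K θ) (hinv : ∀ x : G, conjFun K θ x = θ) :
    ∃ χ : G → ℂ, Cfsg.IsIrrCharacter G χ ∧ ∀ m : K, χ m = θ m := by
  obtain ⟨n, ρ, hρ, rfl⟩ := hθ
  have hinv' : ∀ (g : G) (m : K), ρ.character (nconj K g m) = ρ.character m :=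
    fun g m => congrFun (hinv g) m
  obtain ⟨d, -, hd1, hdvd, -⟩ := IsIrr.degree_dvd (χ := ρ.character) ⟨n, ρ, hρ, rfl⟩
  have hdn : n = d := by
    rw [Representation.char_one, Module.finrank_fin_fun] at hd1
    exact_mod_cast hd1
  obtain ⟨ψ, hψ, hψc⟩ := exists_power_retraction ρ hinv' K ρ le_rfl (fun m => rfl)
  set e := Nat.card K
  let δ : twinGroup K ρ →* ℂˣ :=
    { toFun := fun x => (Units.map (LinearMap.det : Module.End ℂ (Fin n → ℂ) →* ℂ) x.1.2) ^ e
      map_one' := by simp
      map_mul' := fun x y => by simp [mul_pow] }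
  have hδN : ∀ m, δ (baseHom K ρ m) = 1 := by
    intro m
    show (Units.map (LinearMap.det : Module.End ℂ (Fin n → ℂ) →* ℂ) (ρ.toHomUnits m)) ^ e = 1
    rw [← map_pow, ← map_pow, pow_card_eq_one', map_one, map_one]
  have hδc : ∀ c : ℂˣ, δ (scalarHom K ρ c) = c ^ (n * e) := by
    intro c
    apply Units.ext
    show (LinearMap.det (algebraMap ℂ (Module.End ℂ (Fin n → ℂ)) (c : ℂ))) ^ e = _
    rw [Algebra.algebraMap_eq_smul_one, Module.End.one_eq_id, LinearMap.det_smul,
      LinearMap.det_id, mul_one, Module.finrank_fin_fun, ← pow_mul, Units.val_pow_eq_pow_val]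
  have hco : Nat.Coprime (n * e) K.index :=
    Nat.Coprime.mul_left (hcop.coprime_dvd_left (hdn ▸ hdvd)) hcop
  have hb : (1 : ℤ) = (n * e : ℕ) * Nat.gcdA (n * e) K.index +
      K.index * Nat.gcdB (n * e) K.index := by
    rw [← Nat.gcd_eq_gcd_ab, hco]; rfl
  refine exists_extension_of_retraction ρ hinv'
    ((δ ^ Nat.gcdA (n * e) K.index) * (ψ ^ Nat.gcdB (n * e) K.index)) (fun m => ?_) (fun c => ?_)
  · simp [hδN, hψ]
  · simp only [MonoidHom.mul_apply, MonoidHom.zpow_apply, hδc, hψc]
    rw [← zpow_natCast c (n * e), ← zpow_natCast c K.index, ← zpow_mul, ← zpow_mul, ← zpow_add,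
      ← hb, zpow_one]

variable [Fintype G] [Fintype K]

/-- An extension times a linear character of the quotient. -/
theorem isIrr_twist {η : G → ℂ} (hη : Cfsg.IsIrrCharacter G η)
    (hres : Cfsg.IsIrrCharacter K (fun k : K => η k)) (l : G ⧸ K →* ℂˣ) :
    Cfsg.IsIrrCharacter G (fun g => η g * (l (g : G ⧸ K) : ℂ)) := by
  haveI : Fintype (G ⧸ K) := Fintype.ofFinite _
  exact H81.isIrr_mul_inflate K hη hres ⟨_, isIrrCharacter_hom l⟩

omit [K.Normal] [Fintype K] in
theorem charDegree_eq_of_one_eq {χ : G → ℂ} {θ : K → ℂ} (h : χ 1 = θ 1) :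
    Cfsg.charDegree χ = Cfsg.charDegree θ := by
  simp [Cfsg.charDegree, h]

/-- Characters of degree prime to the index of a normal Hall subgroup `K` correspond to pairs
of an invariant irreducible character of `K` and a linear character of `G / K`. -/
theorem card_coprime_degree (hcop : (Nat.card K).Coprime K.index) :
    Nat.card {χ : Cfsg.IrrCharacter G // (Cfsg.charDegree (χ : G → ℂ)).Coprime K.index} =
      Nat.card {θ : Cfsg.IrrCharacter K // ∀ x : G, conjFun K (θ : K → ℂ) x = θ} *
        Nat.card (G ⧸ K →* ℂˣ) := by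
  classical
  haveI : Fintype (G ⧸ K) := Fintype.ofFinite _
  choose η hη hres using fun θ : {θ : Cfsg.IrrCharacter K // ∀ x : G, conjFun K (θ : K → ℂ) x = θ} =>
    exists_extension_hall K hcop θ.1.2 θ.2
  have hresI : ∀ θ, Cfsg.IsIrrCharacter K (fun k : K => η θ k) := fun θ => by
    rw [show (fun k : K => η θ k) = (θ.1 : K → ℂ) from funext (hres θ)]; exact θ.1.2
  rw [← Nat.card_prod]
  symm
  refine Nat.card_congr (Equiv.ofBijective
    (fun p => ⟨⟨_, isIrr_twist K (hη p.1) (hresI p.1) p.2⟩, ?_⟩) ⟨?_, ?_⟩)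
  · show (Cfsg.charDegree fun g => η p.1 g * (p.2 (g : G ⧸ K) : ℂ)).Coprime K.index
    rw [charDegree_eq_of_one_eq K (θ := (p.1.1 : K → ℂ)) (by
      have := hres p.1 1
      simp only [OneMemClass.coe_one] at this
      simp [this])]
    exact hcop.coprime_dvd_left (BlockBasic.charDegree_dvd p.1.1)
  · rintro ⟨θ, l⟩ ⟨θ', l'⟩ e
    have e' : ∀ g : G, η θ g * (l (g : G ⧸ K) : ℂ) = η θ' g * (l' (g : G ⧸ K) : ℂ) :=
      fun g => congrFun (congrArg Subtype.val (congrArg Subtype.val e)) g
    have hθ : θ = θ' := by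
      apply Subtype.ext; apply Subtype.ext; funext k
      have := e' k
      rwa [(QuotientGroup.eq_one_iff (k : G)).2 k.2, map_one, map_one, Units.val_one, mul_one,
        mul_one, hres, hres] at this
    subst hθ
    let μ : G ⧸ K →* ℂˣ := l' * l⁻¹
    have hμ : ∀ g : G, η θ g = η θ g * (μ (g : G ⧸ K) : ℂ) := by
      intro g
      simp only [μ, MonoidHom.mul_apply, MonoidHom.inv_apply, Units.val_mul]
      rw [← mul_assoc, ← e' g, mul_assoc, Units.mul_inv, mul_one]
    have h1 := H81.classInner_mul_conj_inflate K (hη θ) (hresI θ) ⟨_, isIrrCharacter_hom μ⟩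
    rw [show (fun g => η θ g * H81.inflate K (fun q => (μ q : ℂ)) g) = η θ from
      funext fun g => (hμ g).symm, classInner_irr_self (hη θ)] at h1
    split_ifs at h1 with h
    · refine Prod.ext rfl (MonoidHom.ext fun q => Units.ext ?_)
      have h2 := congrFun h q
      simp only [μ, MonoidHom.mul_apply, MonoidHom.inv_apply, Units.val_mul] at h2
      calc (l q : ℂ) = ((l' q : ℂ) * ((l q)⁻¹ : ℂˣ)) * (l q : ℂ) := by rw [h2, one_mul]
        _ = l' q := by rw [mul_assoc, Units.inv_mul, mul_one]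
    · exact absurd h1 one_ne_zero
  · rintro ⟨χ, hχ⟩
    have hc := IsIrr.isCharacter χ.2
    have h0 : (fun k : K => (χ : G → ℂ) k) ≠ 0 := fun h =>
      IsIrr.one_ne_zero χ.2 (by simpa using congrFun h 1)
    obtain ⟨θI, hne⟩ := exists_constituent (CharInduce.IsChar.res hc K) h0
    obtain ⟨θ, hθI⟩ := θI
    change classInner (fun k : K => (χ : G → ℂ) k) θ ≠ 0 at hne
    have hdeg := clifford_degree K χ.2 hθI hne
    obtain ⟨m, hm⟩ := classInner_isChar_nat (CharInduce.IsChar.res hc K) (IsIrr.isCharacter hθI)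
    set T := inertia K θ
    have hd : Cfsg.charDegree (χ : G → ℂ) = m * T.index * Cfsg.charDegree θ := by
      apply Nat.cast_injective (R := ℂ)
      rw [← BlockBasic.apply_one_eq_charDegree, hdeg, hm, Nat.cast_mul, Nat.cast_mul,
        ← BlockBasic.apply_one_eq_charDegree ⟨θ, hθI⟩]
    have hT : T.index = 1 := Nat.eq_one_of_dvd_coprimes hχ
      (hd ▸ (Dvd.intro_left m rfl).mul_right _)
      (Subgroup.index_dvd_of_le (le_inertia K (IsIrr.isClassFunction hθI)))
    have hinvθ : ∀ x : G, conjFun K θ x = θ := fun x =>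
      (mem_inertia K).1 (show x ∈ T by rw [Subgroup.index_eq_one.1 hT]; exact Subgroup.mem_top x)
    let θ' : {θ : Cfsg.IrrCharacter K // ∀ x : G, conjFun K (θ : K → ℂ) x = θ} :=
      ⟨⟨θ, hθI⟩, hinvθ⟩
    obtain ⟨β, hβ⟩ := H81.exists_eq_mul_inflate K (hη θ') (hresI θ') χ.2 (by
      rw [show (fun k : K => η θ' k) = θ from funext (hres θ')]; exact hne)
    have h1 : (β : G ⧸ K → ℂ) 1 = 1 := by
      have hb : Cfsg.charDegree (χ : G → ℂ) =
          Cfsg.charDegree θ * Cfsg.charDegree (β : G ⧸ K → ℂ) := by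
        apply Nat.cast_injective (R := ℂ)
        rw [← BlockBasic.apply_one_eq_charDegree, Nat.cast_mul,
          ← BlockBasic.apply_one_eq_charDegree ⟨θ, hθI⟩, ← BlockBasic.apply_one_eq_charDegree]
        have h2 := congrFun hβ 1
        have h3 := hres θ' 1
        simp only [OneMemClass.coe_one] at h3
        rw [h2, h3, H81.inflate, QuotientGroup.mk_one]
      have := Nat.eq_one_of_dvd_coprimes hχ (hb ▸ Dvd.intro_left _ rfl)
        (BlockBasic.charDegree_dvd β)
      rw [BlockBasic.apply_one_eq_charDegree, this, Nat.cast_one]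
    obtain ⟨l, hl⟩ := IsChar.exists_hom_of_degree_one (IsIrr.isCharacter β.2) h1
    refine ⟨(θ', l), Subtype.ext (Subtype.ext ?_)⟩
    rw [hβ]
    funext g
    simp [H81.inflate, hl]

end Cfsg.Agent.H26.HallExtend
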