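import Cfsg.Agent.H81.GaloisSum
import Cfsg.Agent.CharBasic.Complete
import Mathlib.RingTheory.Trace.Basic
import Mathlib.Data.ZMod.Units

/-!
Rationality of character values and conjugacy of coprime powers.
-/

set_option autoImplicit false

open Module

namespace Cfsg.Agent.H26

/-- A sum of `n`-th roots of unity is rational exactly when it has no other conjugate. -/
theorem rootsum_rational_iff {n m : ℕ} [NeZero n] {ζ : ℂ} (hζ : IsPrimitiveRoot ζ n)
    (e : Fin m → ℕ) :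
    (∃ q : ℚ, ∑ i, ζ ^ e i = (q : ℂ)) ↔
      ∀ k : ℕ, Nat.Coprime k n → ∑ i, (ζ ^ k) ^ e i = ∑ i, ζ ^ e i := by
  classical
  have : NeZero ((n : ℕ) : ℚ) := ⟨by exact_mod_cast NeZero.ne n⟩
  let K := CyclotomicField n ℚ
  have : IsCyclotomicExtension {n} ℚ K := CyclotomicField.isCyclotomicExtension n ℚ
  have hzK := IsCyclotomicExtension.zeta_spec n ℚ K
  set z := IsCyclotomicExtension.zeta n ℚ K with hz
  have : FiniteDimensional ℚ K := IsCyclotomicExtension.finiteDimensional {n} ℚ K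
  have hirr : Irreducible (Polynomial.cyclotomic n ℚ) :=
    Polynomial.cyclotomic.irreducible_rat (NeZero.pos n)
  let E := hzK.embeddingsEquivPrimitiveRoots ℂ hirr
  let x : K := ∑ i, z ^ e i
  have hval : ∀ σ : K →ₐ[ℚ] ℂ, σ x = ∑ i, ((E σ : ℂ)) ^ e i := by
    intro σ
    simp [x, E, map_sum, hz]
  have hex : ∀ k : ℕ, Nat.Coprime k n → ∃ σ : K →ₐ[ℚ] ℂ, σ x = ∑ i, (ζ ^ k) ^ e i := by
    intro k hk
    obtain ⟨σ, hσ⟩ := E.surjective ⟨_, (mem_primitiveRoots (NeZero.pos n)).2 (hζ.pow_of_coprime k hk)⟩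
    exact ⟨σ, by rw [hval, congrArg Subtype.val hσ]⟩
  obtain ⟨σ₀, hσ₀⟩ := hex 1 (Nat.coprime_one_left n)
  simp only [pow_one] at hσ₀
  constructor
  · rintro ⟨q, hq⟩ k hk
    obtain ⟨σ, hσ⟩ := hex k hk
    have hx : x = algebraMap ℚ K q := σ₀.toRingHom.injective (show σ₀ x = σ₀ (algebraMap ℚ K q) by
      rw [hσ₀, hq, AlgHom.commutes]; rfl)
    rw [← hσ, hx, AlgHom.commutes, hq]
    rfl
  · intro h
    have hall : ∀ σ : K →ₐ[ℚ] ℂ, σ x = ∑ i, ζ ^ e i := by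
      intro σ
      obtain ⟨k, -, hk, hσ⟩ := hζ.isPrimitiveRoot_iff.1
        ((mem_primitiveRoots (NeZero.pos n)).1 (E σ).2)
      rw [hval, ← hσ, h k hk]
    have htr := trace_eq_sum_embeddings (E := ℂ) (K := ℚ) (L := K) (x := x)
    simp only [hall, Finset.sum_const, Finset.card_univ, nsmul_eq_mul] at htr
    have hd : 0 < Fintype.card (K →ₐ[ℚ] ℂ) := Fintype.card_pos_iff.2 ⟨σ₀⟩
    refine ⟨Algebra.trace ℚ K x / (Fintype.card (K →ₐ[ℚ] ℂ) : ℚ), ?_⟩
    push_cast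
    rw [eq_div_iff (Nat.cast_ne_zero.2 hd.ne'), mul_comm, ← htr]
    rfl

theorem exists_coprime_lift {n N : ℕ} [NeZero N] (hnN : n ∣ N) {k : ℕ} (hk : Nat.Coprime k n) :
    ∃ k' : ℕ, Nat.Coprime k' N ∧ k' ≡ k [MOD n] := by
  obtain ⟨u, hu⟩ := ZMod.unitsMap_surjective hnN (ZMod.unitOfCoprime k hk)
  refine ⟨(u : ZMod N).val, ZMod.val_coe_unit_coprime u, ?_⟩
  rw [← ZMod.natCast_eq_natCast_iff]
  have := congrArg (fun v : (ZMod n)ˣ => (v : ZMod n)) hu
  simp only [ZMod.unitsMap_def, Units.coe_map, MonoidHom.coe_coe, ZMod.castHom_apply,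
    ZMod.coe_unitOfCoprime] at this
  rw [← this, ZMod.natCast_val]

end Cfsg.Agent.H26
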