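import Cfsg.Agent.CharBasic.Integral
import Cfsg.Agent.CharBasic.Decompose
import Cfsg.Agent.CharBasic.Complete

/-!
Representations of degree smaller than every prime divisor of the group order.
-/

set_option autoImplicit false

namespace Cfsg.Agent.H26

universe u v

variable {G : Type u} [Group G] [Finite G]

theorem finrank_eq_one_of_trivial {V : Type v} [AddCommGroup V] [Module ℂ V] [FiniteDimensional ℂ V]
    (ρ : Representation ℂ G V) [ρ.IsIrreducible] (h : ∀ g, ρ g = LinearMap.id) :
    Module.finrank ℂ V = 1 := by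
  have hpos := CharBasic.finrank_pos_of_isIrreducible ρ
  have : Nontrivial V := Module.nontrivial_of_finrank_pos hpos
  obtain ⟨v, hv⟩ := exists_ne (0 : V)
  rcases IsSimpleOrder.eq_bot_or_eq_top
    (⟨ℂ ∙ v, fun g w hw => by rw [h]; exact hw⟩ : Subrepresentation ρ) with hb | ht
  · exact absurd (Submodule.span_singleton_eq_bot.1 (congrArg Subrepresentation.toSubmodule hb)) hv
  · have ht' : (ℂ ∙ v) = (⊤ : Submodule ℂ V) := congrArg Subrepresentation.toSubmodule ht
    rw [← finrank_top ℂ V, ← ht', finrank_span_singleton hv]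

theorem commute_of_small_degree {V : Type v} [AddCommGroup V] [Module ℂ V] [FiniteDimensional ℂ V]
    (ρ : Representation ℂ G V)
    (hdeg : ∀ p : ℕ, p.Prime → p ∣ Nat.card G → Module.finrank ℂ V < p) (a b : G) :
    ρ a * ρ b = ρ b * ρ a := by
  revert hdeg
  refine CharBasic.rep_induction (motive := fun V _ _ _ ρ =>
    (∀ p : ℕ, p.Prime → p ∣ Nat.card G → Module.finrank ℂ V < p) → ρ a * ρ b = ρ b * ρ a)
    ?_ ?_ ?_ V ρ
  · intro V _ _ _ ρ h _
    exact LinearMap.ext fun v => Subsingleton.elim _ _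
  · intro V _ _ _ ρ hρ hdeg
    have h1 : Module.finrank ℂ V = 1 := by
      by_contra hne
      obtain ⟨p, hp, hdvd⟩ := Nat.exists_prime_and_dvd hne
      have h2 := hdeg p hp (hdvd.trans (CharBasic.finrank_dvd_card ρ))
      have h3 := Nat.le_of_dvd (CharBasic.finrank_pos_of_isIrreducible ρ) hdvd
      omega
    obtain ⟨v, hv, hspan⟩ := finrank_eq_one_iff'.1 h1
    refine LinearMap.ext fun w => ?_
    obtain ⟨c, rfl⟩ := hspan w
    obtain ⟨x, hx⟩ := hspan (ρ a v)
    obtain ⟨y, hy⟩ := hspan (ρ b v)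
    simp only [Module.End.mul_apply, map_smul, ← hx, ← hy]
    rw [smul_comm y x]
  · intro V _ _ _ ρ S T hc hS hT hdeg
    have hS' := hS fun p hp hd => lt_of_le_of_lt (Submodule.finrank_le _) (hdeg p hp hd)
    have hT' := hT fun p hp hd => lt_of_le_of_lt (Submodule.finrank_le _) (hdeg p hp hd)
    refine LinearMap.ext fun w => ?_
    have hw : w ∈ S.toSubmodule ⊔ T.toSubmodule := by
      rw [(CharBasic.isCompl_toSubmodule hc).sup_eq_top]; exact Submodule.mem_top
    obtain ⟨s, hs, t, ht, rfl⟩ := Submodule.mem_sup.1 hw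
    have e1 : ρ a (ρ b s) = ρ b (ρ a s) := congrArg Subtype.val (LinearMap.congr_fun hS' ⟨s, hs⟩)
    have e2 : ρ a (ρ b t) = ρ b (ρ a t) := congrArg Subtype.val (LinearMap.congr_fun hT' ⟨t, ht⟩)
    simp only [Module.End.mul_apply, map_add, e1, e2]

end Cfsg.Agent.H26
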