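import Mathlib
import Cfsg.Agent.CharBasic.Decompose
import Cfsg.Agent.CharBasic.Equivalence
import Cfsg.Agent.CharInduce.Brauer
import Cfsg.Agent.H43.Virtual
import Cfsg.Prelude.Def_Characters

/-!
# Brauer's splitting field theorem

For a subfield `K` of `ℂ` containing the values of the linear characters of all subgroups, every
character is the character of a representation over `K`: a virtual `K`-character of norm one is,
after cancelling common constituents, a `K`-character.
-/

set_option autoImplicit false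

namespace Cfsg.Agent.H26.Splitting

open scoped ComplexConjugate
open Cfsg.Agent CharBasic Module

universe u v w

variable {G : Type u} [Group G] {K : IntermediateField ℚ ℂ}

/-- The complex values of the character of a representation over `K`. -/
noncomputable def kchar {V : Type v} [AddCommGroup V] [Module K V]
    (ρ : Representation K G V) : G → ℂ :=
  fun g => ((ρ.character g : K) : ℂ)

/-- `χ` is the character of a representation over `K`. -/
def IsKChar (K : IntermediateField ℚ ℂ) (χ : G → ℂ) : Prop :=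
  ∃ (n : ℕ) (ρ : Representation K G (Fin n → K)), kchar ρ = χ

/-- `χ` is a difference of two `K`-characters. -/
def IsVirtKChar (K : IntermediateField ℚ ℂ) (χ : G → ℂ) : Prop :=
  ∃ P Q : G → ℂ, IsKChar K P ∧ IsKChar K Q ∧ χ = P - Q

theorem IsKChar.of_rep {V : Type v} [AddCommGroup V] [Module K V] [FiniteDimensional K V]
    (ρ : Representation K G V) : IsKChar K (kchar ρ) := by
  let e := (Module.finBasis K V).equivFun
  let σ : Representation K G (Fin (finrank K V) → K) :=
    { toFun := fun g => e.conj (ρ g)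
      map_one' := by rw [map_one]; exact e.conj_id
      map_mul' := fun a b => by rw [map_mul, Module.End.mul_eq_comp, e.conj_comp]; rfl }
  refine ⟨_, σ, funext fun g => ?_⟩
  show ((LinearMap.trace K _ (e.conj (ρ g)) : K) : ℂ) = _
  rw [LinearMap.trace_conj']
  rfl

theorem IsKChar.zero : IsKChar K (0 : G → ℂ) :=
  ⟨0, 1, funext fun g => by
    show ((LinearMap.trace K (Fin 0 → K) 1 : K) : ℂ) = 0
    simp⟩

theorem IsKChar.add {χ ψ : G → ℂ} (h₁ : IsKChar K χ) (h₂ : IsKChar K ψ) : IsKChar K (χ + ψ) := by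
  obtain ⟨n, ρ, rfl⟩ := h₁
  obtain ⟨m, σ, rfl⟩ := h₂
  let τ : Representation K G ((Fin n → K) × (Fin m → K)) :=
    { toFun := fun g => (ρ g).prodMap (σ g)
      map_one' := by rw [map_one, map_one]; rfl
      map_mul' := fun a b => by rw [map_mul, map_mul]; rfl }
  have h : kchar τ = kchar ρ + kchar σ := funext fun g => by
    show ((LinearMap.trace K _ ((ρ g).prodMap (σ g)) : K) : ℂ) = _
    rw [LinearMap.trace_prodMap']
    push_cast
    rfl
  exact h ▸ IsKChar.of_rep τ

theorem IsKChar.nsmul {χ : G → ℂ} (h : IsKChar K χ) (n : ℕ) : IsKChar K (n • χ) := by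
  induction n with
  | zero => rw [zero_smul]; exact IsKChar.zero
  | succ k ih => rw [succ_nsmul]; exact ih.add h

theorem IsVirtKChar.of_kchar {χ : G → ℂ} (h : IsKChar K χ) : IsVirtKChar K χ :=
  ⟨χ, 0, h, IsKChar.zero, (sub_zero _).symm⟩

theorem IsVirtKChar.add {χ ψ : G → ℂ} (h₁ : IsVirtKChar K χ) (h₂ : IsVirtKChar K ψ) :
    IsVirtKChar K (χ + ψ) := by
  obtain ⟨P, Q, hP, hQ, rfl⟩ := h₁
  obtain ⟨P', Q', hP', hQ', rfl⟩ := h₂
  exact ⟨P + P', Q + Q', hP.add hP', hQ.add hQ', by abel⟩

theorem IsVirtKChar.neg {χ : G → ℂ} (h : IsVirtKChar K χ) : IsVirtKChar K (-χ) := by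
  obtain ⟨P, Q, hP, hQ, rfl⟩ := h
  exact ⟨Q, P, hQ, hP, (neg_sub P Q)⟩

theorem IsVirtKChar.intCast_smul {χ : G → ℂ} (h : IsVirtKChar K χ) (z : ℤ) :
    IsVirtKChar K ((z : ℂ) • χ) := by
  induction z using Int.induction_on with
  | zero => simpa using IsVirtKChar.of_kchar (K := K) (G := G) IsKChar.zero
  | succ k ih =>
    convert ih.add h using 1
    push_cast
    rw [add_smul, one_smul]
  | pred k ih =>
    convert ih.add h.neg using 1
    push_cast
    rw [sub_smul, one_smul, sub_eq_add_neg]

/-- A `K`-character is a complex character, by a representation with entries in `K`. -/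
theorem IsKChar.exists_rep {χ : G → ℂ} (h : IsKChar K χ) :
    ∃ (n : ℕ) (σ : Representation ℂ G (Fin n → ℂ)), σ.character = χ ∧
      ∀ g i j, LinearMap.toMatrix' (σ g) i j ∈ K := by
  obtain ⟨n, ρ, rfl⟩ := h
  let σ : Representation ℂ G (Fin n → ℂ) :=
    { toFun := fun g => Matrix.toLin' ((LinearMap.toMatrix' (ρ g)).map (algebraMap K ℂ))
      map_one' := by simp [Module.End.one_eq_id, Matrix.map_one _ (map_zero _) (map_one _)]
      map_mul' := fun a b => by
        rw [map_mul, Module.End.mul_eq_comp, LinearMap.toMatrix'_comp, Matrix.map_mul,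
          Matrix.toLin'_mul]
        rfl }
  refine ⟨n, σ, funext fun g => ?_, fun g i j => ?_⟩
  · show LinearMap.trace ℂ _ (Matrix.toLin' _) = ((LinearMap.trace K _ (ρ g) : K) : ℂ)
    rw [Matrix.trace_toLin'_eq, ← Matrix.toLin'_toMatrix' (ρ g), Matrix.trace_toLin'_eq,
      Matrix.toLin'_toMatrix']
    exact (AddMonoidHom.map_trace (algebraMap K ℂ).toAddMonoidHom _).symm
  · show LinearMap.toMatrix' (Matrix.toLin' _) i j ∈ K
    rw [LinearMap.toMatrix'_toLin', Matrix.map_apply]
    exact SetLike.coe_mem _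

theorem IsKChar.isCharacter {χ : G → ℂ} (h : IsKChar K χ) : Cfsg.IsCharacter G χ := by
  obtain ⟨n, σ, hσ, -⟩ := h.exists_rep
  exact ⟨n, σ, hσ⟩

/-- Inner products of `K`-characters are dimensions of spaces of intertwiners. -/
theorem classInner_kchar [Fintype G] {V : Type v} [AddCommGroup V] [Module K V]
    [FiniteDimensional K V] {W : Type w} [AddCommGroup W] [Module K W] [FiniteDimensional K W]
    (ρ : Representation K G V) (σ : Representation K G W) :
    Cfsg.classInner (kchar σ) (kchar ρ) =
      (finrank K (Representation.IntertwiningMap ρ σ) : ℂ) := by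
  haveI : Invertible (Nat.card G : K) := invertibleOfNonzero (Nat.cast_ne_zero.2 Nat.card_pos.ne')
  have h := congrArg (fun z : K => (z : ℂ))
    (Representation.card_inv_mul_sum_char_mul_char_eq_finrank ρ σ)
  push_cast at h
  rw [classInner_def, ← h]
  congr 1
  refine Finset.sum_congr rfl fun g _ => ?_
  have hc := CharBasic.IsChar.inv_apply (IsKChar.of_rep ρ).isCharacter g
  exact congrArg _ hc.symm

section Cancel

variable {V : Type v} [AddCommGroup V] [Module K V] [FiniteDimensional K V]

theorem kchar_add_of_isCompl (ρ : Representation K G V) {S T : Subrepresentation ρ}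
    (h : IsCompl S T) : kchar ρ = kchar S.toRepresentation + kchar T.toRepresentation := by
  have hc : IsCompl S.toSubmodule T.toSubmodule :=
    ⟨disjoint_iff.2 (congrArg Subrepresentation.toSubmodule h.inf_eq_bot),
      codisjoint_iff.2 (congrArg Subrepresentation.toSubmodule h.sup_eq_top)⟩
  let e := Submodule.prodEquivOfIsCompl _ _ hc
  ext g
  have he : ρ g = e.conj ((S.toRepresentation g).prodMap (T.toRepresentation g)) := by
    refine LinearMap.ext fun x => ?_
    obtain ⟨⟨a, b⟩, rfl⟩ := e.surjective x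
    simp [LinearEquiv.conj_apply, e, Subrepresentation.toRepresentation]
  show ((LinearMap.trace K V (ρ g) : K) : ℂ) = _
  rw [he, LinearMap.trace_conj', LinearMap.trace_prodMap']
  push_cast
  rfl

variable [Finite G] {W : Type w} [AddCommGroup W] [Module K W] [FiniteDimensional K W]

/-- A nonzero intertwiner splits off a common summand. -/
theorem exists_cancel (ρ : Representation K G V) (σ : Representation K G W)
    (f : Representation.IntertwiningMap σ ρ) (hf : f ≠ 0) :
    ∃ (P Q : G → ℂ), IsKChar K P ∧ IsKChar K Q ∧ kchar ρ - kchar σ = P - Q ∧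
      ∃ C : G → ℂ, Cfsg.IsCharacter G C ∧ C 1 ≠ 0 ∧ kchar ρ = C + P ∧ kchar σ = C + Q := by
  haveI : NeZero (Nat.card G : K) := ⟨Nat.cast_ne_zero.2 Nat.card_pos.ne'⟩
  obtain ⟨C₁, hC₁⟩ := exists_isCompl f.ker
  obtain ⟨D, hD⟩ := exists_isCompl f.range
  have hmem : ∀ c : C₁.toSubmodule, f.toLinearMap c ∈ f.range.toSubmodule := fun c =>
    LinearMap.mem_range_self f.toLinearMap (c : W)
  let φ : C₁.toSubmodule →ₗ[K] f.range.toSubmodule :=
    (f.toLinearMap.comp C₁.toSubmodule.subtype).codRestrict _ hmem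
  have hb : Function.Bijective φ := by
    refine ⟨(injective_iff_map_eq_zero φ).2 fun c hc => ?_, fun y => ?_⟩
    · have h0 : (c : W) ∈ f.ker.toSubmodule ⊓ C₁.toSubmodule :=
        ⟨congrArg Subtype.val hc, c.2⟩
      rw [show f.ker.toSubmodule ⊓ C₁.toSubmodule = ⊥ from
        congrArg Subrepresentation.toSubmodule hC₁.inf_eq_bot, Submodule.mem_bot] at h0
      exact Subtype.ext h0
    · obtain ⟨x, hx⟩ : ∃ x, f.toLinearMap x = y := y.2
      have hx' : x ∈ f.ker.toSubmodule ⊔ C₁.toSubmodule := by
        rw [show f.ker.toSubmodule ⊔ C₁.toSubmodule = ⊤ from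
          congrArg Subrepresentation.toSubmodule hC₁.sup_eq_top]
        trivial
      obtain ⟨a, ha, c, hc, rfl⟩ := Submodule.mem_sup.1 hx'
      refine ⟨⟨c, hc⟩, Subtype.ext ?_⟩
      rw [map_add, show f.toLinearMap a = 0 from ha, zero_add] at hx
      exact hx
  have heq : kchar C₁.toRepresentation = kchar f.range.toRepresentation := by
    funext g
    have hg : f.range.toRepresentation g =
        (LinearEquiv.ofBijective φ hb).conj (C₁.toRepresentation g) := by
      refine LinearMap.ext fun y => ?_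
      obtain ⟨c, rfl⟩ := (LinearEquiv.ofBijective φ hb).surjective y
      simp only [LinearEquiv.conj_apply, LinearMap.comp_apply, LinearEquiv.coe_coe,
        LinearEquiv.symm_apply_apply]
      apply Subtype.ext
      exact (LinearMap.congr_fun (f.isIntertwining' g) (c : W)).symm
    show ((LinearMap.trace K _ _ : K) : ℂ) = ((LinearMap.trace K _ (f.range.toRepresentation g) : K) : ℂ)
    rw [hg, LinearMap.trace_conj']
  have h1 := kchar_add_of_isCompl ρ hD
  have h2 := kchar_add_of_isCompl σ hC₁
  rw [heq, add_comm] at h2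
  refine ⟨kchar D.toRepresentation, kchar f.ker.toRepresentation, IsKChar.of_rep _, IsKChar.of_rep _,
    ?_, kchar f.range.toRepresentation, (IsKChar.of_rep _).isCharacter, ?_, h1, h2⟩
  · rw [h1, h2]; abel
  · show ((Representation.character f.range.toRepresentation 1 : K) : ℂ) ≠ 0
    rw [Representation.char_one]
    simp only [SubfieldClass.coe_ratCast, ne_eq]
    intro h0
    have h0' : finrank K f.range.toSubmodule = 0 := by exact_mod_cast h0
    rw [Submodule.finrank_eq_zero] at h0'
    exact hf (Representation.IntertwiningMap.ext (LinearMap.range_eq_bot.1 h0'))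

end Cancel

/-- A virtual `K`-character of norm one with positive degree is a `K`-character. -/
theorem isKChar_of_norm_one [Fintype G] {χ : G → ℂ} (h : IsVirtKChar K χ)
    (h1 : Cfsg.classInner χ χ = 1) {r : ℕ} (hr : χ 1 = r) : IsKChar K χ := by
  classical
  obtain ⟨P₀, Q₀, hP₀, hQ₀, e₀⟩ := h
  obtain ⟨m₀, hm₀⟩ := CharBasic.IsChar.exists_degree hQ₀.isCharacter
  have hex : ∃ m : ℕ, ∃ P Q, IsKChar K P ∧ IsKChar K Q ∧ χ = P - Q ∧ Q 1 = m :=
    ⟨m₀, P₀, Q₀, hP₀, hQ₀, e₀, hm₀⟩
  obtain ⟨P, Q, hP, hQ, e, hm⟩ := Nat.find_spec hex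
  have hPQ : Cfsg.classInner P Q = 0 := by
    obtain ⟨n, ρ, rfl⟩ := id hP
    obtain ⟨m, σ, rfl⟩ := id hQ
    by_contra hne
    rw [classInner_kchar σ ρ] at hne
    obtain ⟨f, hf⟩ : ∃ f : Representation.IntertwiningMap σ ρ, f ≠ 0 := by
      by_contra hf
      push Not at hf
      haveI : Subsingleton (Representation.IntertwiningMap σ ρ) :=
        ⟨fun a b => by rw [hf a, hf b]⟩
      exact hne (by rw [Module.finrank_zero_of_subsingleton, Nat.cast_zero])
    obtain ⟨P', Q', hP', hQ', he, C, hC, hC1, -, hσ⟩ := exists_cancel ρ σ f hf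
    obtain ⟨c, hc⟩ := CharBasic.IsChar.exists_degree hC
    obtain ⟨q, hq⟩ := CharBasic.IsChar.exists_degree hQ'.isCharacter
    have hsum := congrFun hσ 1
    rw [hm, Pi.add_apply, hc, hq, ← Nat.cast_add] at hsum
    have hsum' := Nat.cast_injective hsum
    have hc0 : c ≠ 0 := fun e0 => hC1 (by rw [hc, e0, Nat.cast_zero])
    exact Nat.find_min hex (m := q) (by omega) ⟨P', Q', hP', hQ', e.trans he, hq⟩
  obtain ⟨n, ρ, rfl⟩ := id hP
  obtain ⟨m, σ, rfl⟩ := id hQ
  have hQP : Cfsg.classInner (kchar σ) (kchar ρ) = 0 := by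
    rw [← CharBasic.classInner_conj_symm, hPQ, map_zero]
  rw [e, classInner_sub_left, classInner_sub_right, classInner_sub_right, hPQ, hQP,
    classInner_kchar, classInner_kchar] at h1
  have h1' : finrank K (Representation.IntertwiningMap ρ ρ) +
      finrank K (Representation.IntertwiningMap σ σ) = 1 := by
    have : ((finrank K (Representation.IntertwiningMap ρ ρ) +
      finrank K (Representation.IntertwiningMap σ σ) : ℕ) : ℂ) = ((1 : ℕ) : ℂ) := by
      push_cast
      linear_combination h1
    exact Nat.cast_injective this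
  by_cases hσ0 : finrank K (Representation.IntertwiningMap σ σ) = 0
  · have : kchar σ = 0 := CharBasic.classInner_self_eq_zero.1 (by
      rw [classInner_kchar, hσ0, Nat.cast_zero])
    rw [e, this, sub_zero]
    exact hP
  · exfalso
    have hρ0 : kchar ρ = 0 := CharBasic.classInner_self_eq_zero.1 (by
      rw [classInner_kchar, show finrank K (Representation.IntertwiningMap ρ ρ) = 0 by omega,
        Nat.cast_zero])
    have h2 := congrFun e 1
    rw [hr, Pi.sub_apply, hρ0, hm, Pi.zero_apply, zero_sub] at h2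
    have h3 : ((r + Nat.find hex : ℕ) : ℂ) = ((0 : ℕ) : ℂ) := by
      push_cast
      linear_combination h2
    have h4 := Nat.cast_injective h3
    have h5 : kchar σ = 0 := by
      obtain ⟨k, τ, hτ, -⟩ := (IsKChar.of_rep σ).exists_rep
      refine CharInduce.IsChar.eq_zero_of_one_eq_zero (IsKChar.of_rep σ).isCharacter ?_
      rw [hm, show Nat.find hex = 0 by omega, Nat.cast_zero]
    have h6 : Cfsg.classInner (kchar σ) (kchar σ) = 0 := by rw [h5]; simp [classInner_def]
    rw [classInner_kchar, Nat.cast_eq_zero] at h6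
    exact hσ0 h6

section Monomial

variable [Fintype G]

/-- Characters induced from linear characters with values in `K`. -/
theorem isKChar_indFun (E : Subgroup G) (l : E →* ℂˣ) (hl : ∀ e, (l e : ℂ) ∈ K) :
    IsKChar K (Cfsg.indFun E (fun e => (l e : ℂ))) := by
  classical
  haveI : Fintype E := Fintype.ofFinite _
  let lk : E → K := fun e => ⟨l e, hl e⟩
  have hlk : ∀ a b, lk (a * b) = lk a * lk b := fun a b => Subtype.ext (by simp [lk])
  have hlk1 : lk 1 = 1 := Subtype.ext (by simp [lk])
  let V : Submodule K (G → K) :=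
    { carrier := {f | ∀ (h : E) (g : G), f ((h : G) * g) = lk h * f g}
      add_mem' := fun {a b} ha hb h g => by simp [ha h g, hb h g, mul_add]
      zero_mem' := fun h g => by simp
      smul_mem' := fun c a ha h g => by simp [ha h g]; ring }
  let R : G → (G → K) →ₗ[K] (G → K) := fun x => LinearMap.funLeft K K (fun g => g * x)
  have hR : ∀ x, ∀ f ∈ V, R x f ∈ V := fun x f hf h g => by
    show f ((h : G) * g * x) = lk h * f (g * x)
    rw [mul_assoc]
    exact hf h _
  let ρ : Representation K G V :=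
    { toFun := fun x => (R x).restrict (hR x)
      map_one' := by
        refine LinearMap.ext fun f => Subtype.ext (funext fun g => ?_)
        show (f : G → K) (g * 1) = _
        rw [mul_one]; rfl
      map_mul' := fun a b => by
        refine LinearMap.ext fun f => Subtype.ext (funext fun g => ?_)
        show (f : G → K) (g * (a * b)) = (f : G → K) (g * a * b)
        rw [mul_assoc] }
  let P : (G → K) →ₗ[K] (G → K) :=
    { toFun := fun f g => (Nat.card E : K)⁻¹ * ∑ h : E, lk h⁻¹ * f ((h : G) * g)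
      map_add' := fun a b => funext fun g => by simp [mul_add, Finset.sum_add_distrib]
      map_smul' := fun c a => funext fun g => by
        simp only [Pi.smul_apply, smul_eq_mul, RingHom.id_apply]
        rw [Finset.mul_sum, Finset.mul_sum, Finset.mul_sum]
        exact Finset.sum_congr rfl fun h _ => by ring }
  have hP : ∀ f, P f ∈ V := fun f k g => by
    show (Nat.card E : K)⁻¹ * _ = lk k * ((Nat.card E : K)⁻¹ * _)
    rw [mul_left_comm]
    congr 1
    rw [Finset.mul_sum]
    refine Fintype.sum_equiv (Equiv.mulRight k) _ _ fun h => ?_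
    simp only [Equiv.coe_mulRight, mul_inv_rev, Subgroup.coe_mul, mul_assoc]
    rw [← mul_assoc (lk k), ← hlk, mul_inv_cancel_left]
  have hfix : ∀ f ∈ V, P f = f := fun f hf => funext fun g => by
    show (Nat.card E : K)⁻¹ * _ = f g
    rw [Finset.sum_congr rfl fun h _ => show lk h⁻¹ * f ((h : G) * g) = f g by
      rw [hf h g, ← mul_assoc, ← hlk, inv_mul_cancel, hlk1, one_mul], Finset.sum_const,
      Finset.card_univ, ← Nat.card_eq_fintype_card, nsmul_eq_mul, ← mul_assoc,
      inv_mul_cancel₀ (Nat.cast_ne_zero.2 Nat.card_pos.ne'), one_mul]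
  have h := IsKChar.of_rep ρ
  convert h using 1
  funext x
  have htr : LinearMap.trace K V (ρ x) = LinearMap.trace K (G → K) ((R x).comp P) := by
    let π : (G → K) →ₗ[K] V := P.codRestrict V hP
    have e1 : ρ x = π.comp ((R x).comp V.subtype) := LinearMap.ext fun f =>
      Subtype.ext (hfix _ (hR x _ f.2)).symm
    rw [e1, LinearMap.trace_comp_comm', LinearMap.comp_assoc]
    rfl
  show Cfsg.indFun E _ x = ((LinearMap.trace K V (ρ x) : K) : ℂ)
  rw [htr, LinearMap.trace_eq_matrix_trace K (Pi.basisFun K G), Matrix.trace, CharInduce.indFun_apply]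
  simp only [Matrix.diag_apply, LinearMap.toMatrix_apply, Pi.basisFun_apply, Pi.basisFun_repr,
    LinearMap.comp_apply]
  push_cast
  rw [Finset.mul_sum]
  refine Fintype.sum_equiv (Equiv.inv G) _ _ fun g => ?_
  show _ = (((Nat.card E : K)⁻¹ * ∑ h : E, lk h⁻¹ *
    (Pi.single g⁻¹ (1 : K) : G → K) ((h : G) * (g⁻¹ * x)) : K) : ℂ)
  push_cast
  congr 1
  by_cases hg : g⁻¹ * x * g ∈ E
  · rw [CharInduce.extendByZero_of_mem _ hg, Finset.sum_eq_single (⟨g⁻¹ * x * g, hg⟩⁻¹ : E)]
    · rw [show ((⟨g⁻¹ * x * g, hg⟩⁻¹ : E) : G) * (g⁻¹ * x) = g⁻¹ by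
        simp [mul_assoc], Pi.single_eq_same]
      simp [lk]
    · intro h _ hne
      rw [Pi.single_eq_of_ne, ZeroMemClass.coe_zero, mul_zero]
      intro e
      apply hne
      apply Subtype.ext
      simp only [InvMemClass.coe_inv, mul_inv_rev, inv_inv]
      rw [eq_mul_inv_iff_mul_eq.2 e]
      group
    · exact fun h => absurd (Finset.mem_univ _) h
  · rw [CharInduce.extendByZero_of_not_mem _ hg]
    refine (Finset.sum_eq_zero fun h _ => ?_).symm
    rw [Pi.single_eq_of_ne, ZeroMemClass.coe_zero, mul_zero]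
    intro e
    apply hg
    have : (h : G) = g⁻¹ * (g⁻¹ * x)⁻¹ := eq_mul_inv_iff_mul_eq.2 e
    have h2 := inv_mem h.2
    rw [this] at h2
    simpa [mul_assoc] using h2

end Monomial

/-- Every character is a `K`-character when `K` has enough roots of unity. -/
theorem isKChar_of_isCharacter [Fintype G] (hK : ∀ (E : Subgroup G) (l : E →* ℂˣ) (e : E), (l e : ℂ) ∈ K)
    {χ : G → ℂ} (hχ : Cfsg.IsCharacter G χ) : IsKChar K χ := by
  classical
  have hv : ∀ ψ : G → ℂ, Cfsg.IsCharacter G ψ → IsVirtKChar K ψ := by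
    intro ψ hψ
    obtain ⟨l, -, he⟩ := CharInduce.exists_list_of_mem_closure
      (fun t : (E : Subgroup G) × (E →* ℂˣ) => CharInduce.IsElem t.1)
      (fun t => Cfsg.indFun t.1 (fun e => (t.2 e : ℂ))) (CharInduce.brauer hψ)
    rw [he]
    clear he
    induction l with
    | nil => exact IsVirtKChar.of_kchar IsKChar.zero
    | cons t l ih =>
      rw [List.map_cons, List.sum_cons]
      exact IsVirtKChar.add
        (((IsVirtKChar.of_kchar (isKChar_indFun t.1.1 t.1.2 (hK _ _)))).intCast_smul t.2) ih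
  have hirr : ∀ θ : Cfsg.IrrCharacter G, IsKChar K (θ : G → ℂ) := fun θ => by
    obtain ⟨r, -, hr⟩ := CharBasic.IsIrr.exists_degree θ.2
    exact isKChar_of_norm_one (hv _ (CharBasic.IsIrr.isCharacter θ.2))
      (CharBasic.classInner_irr_self θ.2) hr
  have hn : ∀ θ : Cfsg.IrrCharacter G, ∃ n : ℕ, Cfsg.classInner χ (θ : G → ℂ) = n := fun θ => by
    obtain ⟨a, σ, rfl⟩ := id hχ
    obtain ⟨b, τ, -, hτ⟩ := θ.2
    rw [← hτ, CharBasic.classInner_character τ σ]
    exact ⟨_, rfl⟩
  choose n hn using hn
  rw [CharBasic.classFunction_expansion (CharBasic.IsChar.isClassFunction hχ)]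
  refine Finset.sum_induction _ (IsKChar K) (fun _ _ => IsKChar.add) IsKChar.zero fun θ _ => ?_
  rw [hn, Nat.cast_smul_eq_nsmul]
  exact (hirr θ).nsmul _

/-- Brauer's splitting field theorem. -/
theorem splitting [Finite G] (n : ℕ) (ρ : Representation ℂ G (Fin n → ℂ)) :
    ∃ σ : Representation ℂ G (Fin n → ℂ), Nonempty (ρ.Equiv σ) ∧ ∀ g : G, ∀ i j : Fin n,
      LinearMap.toMatrix' (σ g) i j ∈ Algebra.adjoin ℚ
        ({Complex.exp (2 * Real.pi * Complex.I / (Monoid.exponent G : ℂ))} : Set ℂ) := by
  cases nonempty_fintype G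
  set m := Monoid.exponent G with hm
  have hm0 : m ≠ 0 := Monoid.exponent_ne_zero_of_finite
  set ζ := Complex.exp (2 * Real.pi * Complex.I / (m : ℂ))
  have hζ : IsPrimitiveRoot ζ m := Complex.isPrimitiveRoot_exp m hm0
  have hint : IsIntegral ℚ ζ := (hζ.isIntegral (Nat.pos_of_ne_zero hm0)).tower_top
  set K := IntermediateField.adjoin ℚ ({ζ} : Set ℂ) with hKdef
  have hK : ∀ (E : Subgroup G) (l : E →* ℂˣ) (e : E), (l e : ℂ) ∈ K := by
    intro E l e
    haveI : NeZero m := ⟨hm0⟩
    obtain ⟨i, -, hi⟩ := hζ.eq_pow_of_pow_eq_one (ξ := (l e : ℂ)) (by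
      rw [← Units.val_pow_eq_pow_val, ← map_pow]
      have : e ^ m = 1 := Subtype.ext (by simp [hm, Monoid.pow_exponent_eq_one])
      rw [this, map_one, Units.val_one])
    rw [← hi]
    exact pow_mem (IntermediateField.subset_adjoin ℚ _ (Set.mem_singleton ζ)) i
  obtain ⟨k, σ, hσ, hσK⟩ := (isKChar_of_isCharacter hK ⟨n, ρ, rfl⟩).exists_rep
  have hk : k = n := by
    have := congrFun hσ 1
    rw [Representation.char_one, Representation.char_one, Module.finrank_fin_fun,
      Module.finrank_fin_fun] at this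
    exact_mod_cast this
  subst hk
  refine ⟨σ, CharBasic.nonempty_equiv_of_character_eq ρ σ hσ.symm, fun g i j => ?_⟩
  rw [← IntermediateField.adjoin_simple_toSubalgebra_of_isAlgebraic hint.isAlgebraic]
  exact hσK g i j

end Cfsg.Agent.H26.Splitting
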